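import Cfsg.Agent.H28.SmallOrders.RationalColumn

/-!
# Order 4320: the normalizer of a Sylow 5-subgroup is not a Frobenius group of order 20
-/

set_option autoImplicit false
set_option synthInstance.maxSize 1024

namespace Cfsg.Agent.H28.SmallOrders

open Finset

/-- The possible values of an involution at a character of signed degree `x`. -/
def involutionRange (x : ℤ) : List ℤ :=
  ((List.range (2 * x.natAbs)).map fun i : ℕ => (i : ℤ) - x.natAbs).filter
    fun a => decide (a.natAbs < x.natAbs ∧ (4 : ℤ) ∣ x - a)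

theorem mem_involutionRange {x a : ℤ} (h : |a| < |x|) (h4 : (4 : ℤ) ∣ x - a) :
    a ∈ involutionRange x := by
  obtain ⟨h1, h2⟩ := abs_lt.mp h
  have h3 : a.natAbs < x.natAbs := by
    rw [Int.abs_eq_natAbs] at h1 h2
    omega
  rw [involutionRange, List.mem_filter]
  refine ⟨List.mem_map.mpr ⟨(a + x.natAbs).toNat, List.mem_range.mpr ?_, ?_⟩, ?_⟩
  · omega
  · rw [Int.toNat_of_nonneg (by omega)]; ring
  · simp [h3, h4]

/-- The divisors of 4320. -/
def divisors4320 : List ℕ :=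
  [1, 2, 3, 4, 5, 6, 8, 9, 10, 12, 15, 16, 18, 20, 24, 27, 30, 32, 36, 40, 45, 48, 54, 60, 72, 80,
   90, 96, 108, 120, 135, 144, 160, 180, 216, 240, 270, 288, 360, 432, 480, 540, 720, 864, 1080,
   1440, 2160, 4320]

/-- The four possible signed degree quadruples `xᵢ`, with `kᵢ = 144 / xᵢ`. -/
def quads4320 : List (List ℤ × List ℤ) :=
  [([-9, -4, -4, 16], [-16, -36, -36, 9]), ([-9, -4, 6, 6], [-16, -36, 24, 24]),
   ([-24, -9, -4, 36], [-6, -16, -36, 4]), ([-24, -9, 16, 16], [-6, -16, 9, 9])]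

theorem arith4320_degrees :
    ∀ a ∈ [(-54 : ℤ), -24, -9, -4, 6, 16, 36], ∀ b ∈ [(-54 : ℤ), -24, -9, -4, 6, 16, 36],
    ∀ c ∈ [(-54 : ℤ), -24, -9, -4, 6, 16, 36], ∀ d ∈ [(-54 : ℤ), -24, -9, -4, 6, 16, 36],
      a ≤ b → b ≤ c → c ≤ d → a + b + c + d = -1 → a * a + b * b + c * c + d * d < 4320 →
        [a, b, c, d] ∈ quads4320.map Prod.fst := by
  decide +kernel

theorem arith4320_values :
    ∀ q ∈ quads4320, ∀ a ∈ involutionRange (q.1.getD 0 0), ∀ b ∈ involutionRange (q.1.getD 1 0),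
      ∀ c ∈ involutionRange (q.1.getD 2 0), ∀ d ∈ involutionRange (q.1.getD 3 0),
        a + b + c + d = -1 → ∀ C ∈ divisors4320, 1 + (a * a + b * b + c * c + d * d) ≤ (C : ℤ) →
          (C : ℤ) * C ≠ 6 * (144 + (q.2.getD 0 0 * (a * a) + q.2.getD 1 0 * (b * b) +
            q.2.getD 2 0 * (c * c) + q.2.getD 3 0 * (d * d))) := by
  decide +kernel

theorem arith4320_degree_list : ∀ k < 66, k ∣ 4320 → 2 ≤ k →
    (k % 5 = 1 → k = 6 ∨ k = 16 ∨ k = 36) ∧ (k % 5 = 4 → k = 4 ∨ k = 9 ∨ k = 24 ∨ k = 54) := by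
  decide +kernel

theorem quads4320_mul (q : List ℤ × List ℤ) (hq : q ∈ quads4320) :
    ∀ i < 4, q.1.getD i 0 * q.2.getD i 0 = 144 := by
  revert q
  decide +kernel

theorem mem_divisors4320 (k : ℕ) (hk : k ∣ 4320) : k ∈ divisors4320 := by
  have hmem : k ∈ Nat.divisors 4320 := Nat.mem_divisors.mpr ⟨hk, by norm_num⟩
  have hall : ∀ j ∈ Nat.divisors 4320, j ∈ divisors4320 := by decide +kernel
  exact hall k hmem

variable {G : Type*} [Group G] [Fintype G] [IsSimpleGroup G]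

/-- A simple group of order 4320 has no rational self-centralising element of order 5. -/
theorem not_rational_five (hG : ¬ IsMulCommutative G) (hcard : Nat.card G = 4320) {z : G}
    (hz : orderOf z = 5) (hC : Subgroup.centralizer ({z} : Set G) = Subgroup.zpowers z)
    (he : (H30.conjExps 5 z).card = 4) : False := by
  classical
  have : Fact (Nat.Prime 5) := ⟨by norm_num⟩
  obtain ⟨d, c, hd, hc, hdo, hco, hdf, hcong, hc2, hdc, hd2, hu⟩ :=
    rational_column hG hz hC (by rw [he])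
  obtain ⟨u, hu2, hL⟩ := exists_inverting_involution hz hC (by rw [he]) (by norm_num)
  obtain ⟨a, hao, ha4, hac, ha2, hform⟩ := hu u hu2 (by norm_num)
  set o := H26.oneIrr G
  set R := (univ.erase o).filter fun χ => c χ ≠ 0 with hR
  have hsplit : ∀ {M : Type} [AddCommMonoid M] (f : Cfsg.IrrCharacter G → M),
      (∀ χ, c χ = 0 → f χ = 0) → ∑ χ, f χ = f o + ∑ χ ∈ R, f χ := by
    intro M _ f hf
    rw [← Finset.add_sum_erase _ _ (mem_univ o), hR, Finset.sum_filter_of_ne]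
    intro χ _ hne h0
    exact hne (hf χ h0)
  rw [hsplit (fun χ => c χ ^ 2) (fun χ h => by simp [h]), hco] at hc2
  rw [hsplit (fun χ => (d χ : ℤ) * c χ) (fun χ h => by simp [h]), hdo, hco] at hdc
  push_cast at hc2 hdc
  have hc2' : ∑ χ ∈ R, c χ ^ 2 = 4 := by linarith
  have hdc' : ∑ χ ∈ R, (d χ : ℤ) * c χ = -1 := by linarith
  have hne : ∀ χ ∈ R, χ ≠ o ∧ c χ ≠ 0 := fun χ hχ =>
    ⟨ne_of_mem_erase (mem_filter.mp hχ).1, (mem_filter.mp hχ).2⟩
  have hge : ∀ χ ∈ R, 1 ≤ c χ ^ 2 := fun χ hχ => by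
    have := (hne χ hχ).2
    rcases lt_or_gt_of_ne this with h | h <;> nlinarith
  have hsq : ∀ χ ∈ R, c χ ^ 2 = 1 := by
    intro χ hχ
    by_contra hne1
    have h4 : 4 ≤ c χ ^ 2 := by
      have h1 := hge χ hχ
      rcases le_or_gt 2 (c χ) with h | h
      · nlinarith
      · rcases le_or_gt (c χ) (-2) with h' | h'
        · nlinarith
        · exfalso
          rcases (by omega : c χ = 1 ∨ c χ = 0 ∨ c χ = -1) with e | e | e
          · exact hne1 (by rw [e]; norm_num)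
          · exact (hne χ hχ).2 e
          · exact hne1 (by rw [e]; norm_num)
    have hre : R.erase χ = ∅ := by
      rw [Finset.eq_empty_iff_forall_notMem]
      intro ψ hψ
      have h1 := hge ψ (mem_of_mem_erase hψ)
      have h2 := Finset.single_le_sum (fun y _ => sq_nonneg (c y)) hψ
      rw [← Finset.add_sum_erase _ _ hχ] at hc2'
      linarith
    rw [← Finset.add_sum_erase _ _ hχ, hre, Finset.sum_empty, add_zero] at hdc'
    have h5 : (d χ) * (c χ).natAbs = 1 := by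
      have := congrArg Int.natAbs hdc'
      simpa [Int.natAbs_mul] using this
    have h6 : (c χ).natAbs = 1 := Nat.eq_one_of_mul_eq_one_left h5
    rcases Int.natAbs_eq_iff.mp h6 with e | e <;> rw [e] at h4 <;> norm_num at h4
  have hR4 : R.card = 4 := by
    rw [Finset.sum_congr rfl hsq, Finset.sum_const, nsmul_eq_mul, mul_one] at hc2'
    exact_mod_cast hc2'
  let g0 : Fin 4 ≃ R := (R.equivFinOfCardEq hR4).symm
  let x0 : Fin 4 → ℤ := fun i => (d (g0 i).1 : ℤ) * c (g0 i).1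
  let g : Fin 4 ≃ R := (Tuple.sort x0).trans g0
  have hsumR : ∀ {M : Type} [AddCommMonoid M] (f : Cfsg.IrrCharacter G → M),
      ∑ χ ∈ R, f χ = f (g 0).1 + f (g 1).1 + f (g 2).1 + f (g 3).1 := by
    intro M _ f
    rw [← Finset.sum_coe_sort R f, ← g.sum_comp fun χ => f χ.1, Fin.sum_univ_four]
  let x : Fin 4 → ℤ := fun i => (d (g i).1 : ℤ) * c (g i).1
  have hmono : Monotone x := Tuple.monotone_sort x0
  have hx2 : ∀ i, x i * x i = (d (g i).1 : ℤ) * d (g i).1 := fun i => by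
    have := hsq _ (g i).2
    rw [sq] at this
    linear_combination (norm := (simp only [x]; ring)) (d (g i).1 : ℤ) * d (g i).1 * this
  have hxsum : x 0 + x 1 + x 2 + x 3 = -1 := by rw [← hdc', hsumR]
  have hxsq : x 0 * x 0 + x 1 * x 1 + x 2 * x 2 + x 3 * x 3 < 4320 := by
    have h1 : ∑ χ ∈ R, d χ ^ 2 + d o ^ 2 ≤ ∑ χ, d χ ^ 2 := by
      rw [add_comm, ← Finset.add_sum_erase _ _ (mem_univ o)]
      exact Nat.add_le_add_left (Finset.sum_le_sum_of_subset (Finset.filter_subset _ _)) _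
    rw [hd2, hcard, hdo, hsumR] at h1
    rw [hx2, hx2, hx2, hx2]
    exact_mod_cast (by simp only [sq] at h1; omega :
      d (g 0).1 * d (g 0).1 + d (g 1).1 * d (g 1).1 + d (g 2).1 * d (g 2).1 +
        d (g 3).1 * d (g 3).1 < 4320)
  have hxmem : ∀ i, x i ∈ [(-54 : ℤ), -24, -9, -4, 6, 16, 36] := by
    intro i
    obtain ⟨hpos, hdvd, hlin⟩ := hdf (g i).1
    rw [hcard] at hdvd
    have h2 : 2 ≤ d (g i).1 := by
      by_contra h
      exact (hne _ (g i).2).1 (hlin (by omega))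
    have hlt : x i * x i < 4320 := by
      have hle : x i * x i ≤ ∑ j, x j * x j :=
        Finset.single_le_sum (f := fun j => x j * x j) (fun j _ => mul_self_nonneg _) (mem_univ i)
      rw [Fin.sum_univ_four] at hle
      linarith
    have hk : d (g i).1 < 66 := by
      by_contra h
      rw [hx2] at hlt
      have : (66 : ℤ) ≤ d (g i).1 := by exact_mod_cast (not_lt.mp h)
      nlinarith
    obtain ⟨hL1, hL4⟩ := arith4320_degree_list _ hk hdvd h2
    obtain ⟨q, hq⟩ := (hcong (g i).1).1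
    rcases sq_eq_one_iff.mp (hsq _ (g i).2) with e | e
    · rw [e] at hq
      have : x i = d (g i).1 := by simp only [x, e, mul_one]
      rcases hL1 (by omega) with h | h | h <;> simp [this, h]
    · rw [e] at hq
      have : x i = -(d (g i).1 : ℤ) := by simp only [x, e, mul_neg, mul_one]
      rcases hL4 (by omega) with h | h | h | h <;> simp [this, h]
  have hq := arith4320_degrees _ (hxmem 0) _ (hxmem 1) _ (hxmem 2) _ (hxmem 3)
    (hmono (by decide)) (hmono (by decide)) (hmono (by decide)) hxsum hxsq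
  obtain ⟨q, hqmem, hqx⟩ := List.mem_map.mp hq
  have hqi : ∀ i : Fin 4, q.1.getD i.1 0 = x i := by
    intro i
    rw [hqx]
    fin_cases i <;> rfl
  -- the values at the involution
  let A : Fin 4 → ℤ := fun i => a (g i).1 * c (g i).1
  have hA : ∀ i : Fin 4, A i ∈ involutionRange (q.1.getD i.1 0) := by
    intro i
    rw [hqi]
    obtain ⟨h4, hlt⟩ := ha4 (g i).1
    have hlt := hlt (hne _ (g i).2).1
    refine mem_involutionRange ?_ ?_
    · rcases sq_eq_one_iff.mp (hsq _ (g i).2) with e | e <;>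
        simpa [A, x, e] using hlt
    · have e : x i - A i = ((d (g i).1 : ℤ) - a (g i).1) * c (g i).1 := by simp only [A, x]; ring
      rw [e]
      exact h4.mul_right _
  have hA2 : ∀ i, A i * A i = a (g i).1 * a (g i).1 := fun i => by
    have := hsq _ (g i).2
    rw [sq] at this
    linear_combination (norm := (simp only [A]; ring)) a (g i).1 * a (g i).1 * this
  have hAsum : A 0 + A 1 + A 2 + A 3 = -1 := by
    rw [hsplit (fun χ => a χ * c χ) (fun χ h => by simp [h]), hao, hco, hsumR] at hac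
    linarith
  set Cu := Nat.card (Subgroup.centralizer ({u} : Set G)) with hCu
  have hmemC : Cu ∈ divisors4320 :=
    mem_divisors4320 _ (hcard ▸ Subgroup.card_subgroup_dvd_card _)
  have hAle : 1 + (A 0 * A 0 + A 1 * A 1 + A 2 * A 2 + A 3 * A 3) ≤ (Cu : ℤ) := by
    rw [hA2, hA2, hA2, hA2, ← ha2, ← Finset.add_sum_erase _ _ (mem_univ o), hao]
    have h1 : ∑ χ ∈ R, a χ ^ 2 ≤ ∑ χ ∈ univ.erase o, a χ ^ 2 :=
      Finset.sum_le_sum_of_subset_of_nonneg (Finset.filter_subset _ _) fun χ _ _ => sq_nonneg _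
    rw [hsumR] at h1
    simp only [sq] at h1 ⊢
    linarith
  refine arith4320_values q hqmem _ (hA 0) _ (hA 1) _ (hA 2) _ (hA 3) hAsum Cu hmemC hAle ?_
  -- the class multiplication identity
  rw [hcard, hL, hsplit (fun χ => (a χ : ℚ) ^ 2 * c χ / d χ) (fun χ h => by simp [h]), hao, hco,
    hdo, hsumR] at hform
  have hterm : ∀ i : Fin 4, ((q.2.getD i.1 0 * (A i * A i) : ℤ) : ℚ) =
      144 * ((a (g i).1 : ℚ) ^ 2 * c (g i).1 / d (g i).1) := by
    intro i
    have hxk : x i * q.2.getD i.1 0 = 144 := hqi i ▸ quads4320_mul q hqmem i.1 i.2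
    have hd0 : (d (g i).1 : ℚ) ≠ 0 := Nat.cast_ne_zero.mpr (hdf _).1.ne'
    have hcc : (c (g i).1 : ℚ) ^ 2 = 1 := by exact_mod_cast hsq _ (g i).2
    have hxk' : (d (g i).1 : ℚ) * c (g i).1 * (q.2.getD i.1 0 : ℤ) = 144 := by exact_mod_cast hxk
    rw [hA2]
    push_cast
    field_simp
    linear_combination (a (g i).1 : ℚ) ^ 2 * c (g i).1 * hxk' -
      (a (g i).1 : ℚ) ^ 2 * (d (g i).1 : ℚ) * (q.2.getD i.1 0 : ℤ) * hcc
  have h0 : ((q.2.getD 0 0 * (A 0 * A 0) : ℤ) : ℚ) = _ := hterm 0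
  have h1 : ((q.2.getD 1 0 * (A 1 * A 1) : ℤ) : ℚ) = _ := hterm 1
  have h2 : ((q.2.getD 2 0 * (A 2 * A 2) : ℤ) : ℚ) = _ := hterm 2
  have h3 : ((q.2.getD 3 0 * (A 3 * A 3) : ℤ) : ℚ) = _ := hterm 3
  push_cast at hform h0 h1 h2 h3
  have key : ((Cu : ℤ) * Cu : ℚ) = ((6 * (144 + (q.2.getD 0 0 * (A 0 * A 0) + q.2.getD 1 0 * (A 1 * A 1) +
            q.2.getD 2 0 * (A 2 * A 2) + q.2.getD 3 0 * (A 3 * A 3))) : ℤ) : ℚ) := by
    push_cast
    linear_combination (-1 / 5 : ℚ) * hform - 6 * (h0 + h1 + h2 + h3)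
  exact_mod_cast key

end Cfsg.Agent.H28.SmallOrders
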