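import Cfsg.Agent.H28.SmallOrders.AltFiveInvolutions
import Cfsg.Agent.H30.SylowPrimeCases
import Cfsg.Agent.H31.SylowBasic
import Cfsg.Agent.S0494
import Cfsg.Agent.S1019
import Cfsg.Agent.S3669

/-!
# Order 4320: an involution centralizing a Sylow 5-subgroup
-/

set_option autoImplicit false

namespace Cfsg.Agent.H28.SmallOrders

open Subgroup

section Graph

variable {G : Type*} [Group G] [Fintype G] [DecidableEq G]

/-- The conjugates of `u`. -/
noncomputable def classSet (u : G) : Finset G := by
  classical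
  exact Finset.univ.filter fun x => IsConj u x

/-- The conjugates of `u` other than `x` that commute with `x`. -/
noncomputable def commNbrs (u x : G) : Finset G :=
  (classSet u).filter fun y => y ≠ x ∧ x * y = y * x

theorem mem_classSet {u x : G} : x ∈ classSet u ↔ IsConj u x := by
  classical
  simp [classSet]

theorem mem_commNbrs {u x y : G} :
    y ∈ commNbrs u x ↔ IsConj u y ∧ y ≠ x ∧ x * y = y * x := by
  simp [commNbrs, mem_classSet]

theorem card_commNbrs_eq {u x : G} (hx : IsConj u x) :
    (commNbrs u x).card = (commNbrs u u).card := by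
  obtain ⟨g, rfl⟩ := isConj_iff.mp hx
  refine (Finset.card_bij (fun y _ => g * y * g⁻¹) ?_ ?_ ?_).symm
  · intro y hy
    rw [mem_commNbrs] at hy ⊢
    refine ⟨hy.1.trans (isConj_iff.mpr ⟨g, rfl⟩), fun h => hy.2.1 ?_, ?_⟩
    · exact mul_left_cancel (mul_right_cancel h)
    · rw [conj_mul, conj_mul, hy.2.2]
  · intro a _ b _ h
    exact mul_left_cancel (mul_right_cancel h)
  · intro y hy
    rw [mem_commNbrs] at hy
    refine ⟨g⁻¹ * y * g, ?_, by group⟩
    rw [mem_commNbrs]
    refine ⟨hy.1.trans (isConj_iff.mpr ⟨g⁻¹, by group⟩), fun h => hy.2.1 ?_, ?_⟩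
    · calc y = g * (g⁻¹ * y * g) * g⁻¹ := by group
        _ = g * u * g⁻¹ := by rw [h]
    · calc u * (g⁻¹ * y * g) = g⁻¹ * (g * u * g⁻¹ * y) * g := by group
        _ = g⁻¹ * (y * (g * u * g⁻¹)) * g := by rw [hy.2.2]
        _ = g⁻¹ * y * g * u := by group

/-- There is no 15-regular commuting graph on 36 involutions with at most two common neighbours
of adjacent vertices and at most seven of the others. -/
theorem no_commuting_graph {u : G} (hcard : (classSet u).card = 36)
    (hn : (commNbrs u u).card = 15)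
    (hlam : ∀ w ∈ commNbrs u u, (commNbrs u u ∩ commNbrs u w).card ≤ 2)
    (hmu : ∀ w ∈ classSet u, w ≠ u → w ∉ commNbrs u u →
      (commNbrs u u ∩ commNbrs u w).card ≤ 7) : False := by
  classical
  set M := commNbrs u u with hM
  set X := (classSet u).erase u with hX
  have hMX : M ⊆ X := fun y hy => by
    rw [mem_commNbrs] at hy
    exact Finset.mem_erase.mpr ⟨hy.2.1, mem_classSet.mpr hy.1⟩
  have hXc : X.card = 35 := by
    rw [hX, Finset.card_erase_of_mem (mem_classSet.mpr (IsConj.refl u)), hcard]
  have h1 : ∑ w ∈ X, (M ∩ commNbrs u w).card ≤ 170 := by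
    rw [← Finset.sum_sdiff hMX]
    have a := Finset.sum_le_card_nsmul (X \ M) (fun w => (M ∩ commNbrs u w).card) 7
      (fun w hw => by
        obtain ⟨hwX, hwM⟩ := Finset.mem_sdiff.mp hw
        exact hmu w (Finset.mem_of_mem_erase hwX) (Finset.ne_of_mem_erase hwX) hwM)
    have b := Finset.sum_le_card_nsmul M (fun w => (M ∩ commNbrs u w).card) 2 hlam
    rw [Finset.card_sdiff_of_subset hMX, hXc, hn, smul_eq_mul] at a
    rw [hn, smul_eq_mul] at b
    omega
  have h2 : ∑ w ∈ X, (M ∩ commNbrs u w).card = 210 := by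
    have h3 : ∀ y ∈ M, (X.filter fun w => y ∈ commNbrs u w).card = 14 := by
      intro y hy
      have hy' := mem_commNbrs.mp hy
      have e : (X.filter fun w => y ∈ commNbrs u w) = (commNbrs u y).erase u := by
        ext w
        simp only [Finset.mem_filter, hX, Finset.mem_erase, mem_classSet, mem_commNbrs]
        constructor
        · rintro ⟨⟨h1, h2⟩, -, h4, h5⟩
          exact ⟨h1, h2, h4.symm, h5.symm⟩
        · rintro ⟨h1, h2, h4, h5⟩
          exact ⟨⟨h1, h2⟩, hy'.1, h4.symm, h5.symm⟩
      rw [e, Finset.card_erase_of_mem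
        (mem_commNbrs.mpr ⟨IsConj.refl u, fun h => hy'.2.1 h.symm, hy'.2.2.symm⟩),
        card_commNbrs_eq hy'.1, hn]
    have h4 : ∑ w ∈ X, (M ∩ commNbrs u w).card =
        ∑ y ∈ M, (X.filter fun w => y ∈ commNbrs u w).card := by
      simp only [← Finset.filter_mem_eq_inter]
      exact Finset.sum_card_bipartiteAbove_eq_sum_card_bipartiteBelow (fun w y => y ∈ commNbrs u w)
    rw [h4, Finset.sum_congr rfl h3, Finset.sum_const, hn]
    rfl
  omega

end Graph

variable {G : Type*} [Group G] [Fintype G] [IsSimpleGroup G]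

set_option maxHeartbeats 1000000 in
-- the case analysis is long
/-- In a simple group of order 4320 no Sylow 5-subgroup has normalizer of order 20 and
centralizer of order 10. -/
theorem no_central_involution_case (hG : ¬ IsMulCommutative G) (hcard : Nat.card G = 4320)
    (P : Sylow 5 G) (hP : Nat.card (P : Subgroup G) = 5)
    (hN : Nat.card (normalizer ((P : Subgroup G) : Set G)) = 20)
    (hC : Nat.card (centralizer ((P : Subgroup G) : Set G)) = 10) : False := by
  classical
  have : Fact (Nat.Prime 5) := ⟨by norm_num⟩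
  have : Fact (Nat.Prime 2) := ⟨Nat.prime_two⟩
  set N := normalizer ((P : Subgroup G) : Set G) with hNdef
  set C := centralizer ((P : Subgroup G) : Set G) with hCdef
  have hCN : C ≤ N := H30.centralizer_le_normalizer _
  have hPC : (P : Subgroup G) ≤ C := by
    have : IsCyclic (P : Subgroup G) := isCyclic_of_prime_card hP
    have : IsMulCommutative (P : Subgroup G) := IsCyclic.isMulCommutative
    exact le_centralizer _
  obtain ⟨z, hz⟩ := exists_prime_orderOf_dvd_card' (G := (P : Subgroup G)) 5 (dvd_of_eq hP.symm)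
  obtain ⟨u0, hu0⟩ := exists_prime_orderOf_dvd_card' (G := C) 2 (by rw [hC]; norm_num)
  have : IsCyclic C := by
    refine isCyclic_of_orderOf_eq_card (⟨z.1, hPC z.2⟩ * u0) ?_
    have hc : Commute (⟨z.1, hPC z.2⟩ : C) u0 :=
      Subtype.ext (mem_centralizer_iff.mp u0.2 z.1 z.2)
    have hzo : orderOf (⟨z.1, hPC z.2⟩ : C) = 5 := by
      rw [Subgroup.orderOf_mk, Subgroup.orderOf_coe, hz]
    rw [hc.orderOf_mul_eq_mul_orderOf_of_coprime (by rw [hzo, hu0]; norm_num), hzo, hu0, hC]
  set u : G := u0.1 with hudef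
  have hu : orderOf u = 2 := (Subgroup.orderOf_coe u0).trans hu0
  have hu2 : u * u = 1 := by rw [← sq, ← hu, pow_orderOf_eq_one]
  have hu1 : u ≠ 1 := fun h => by rw [h, orderOf_one] at hu; norm_num at hu
  have huC : u ∈ C := u0.2
  have huniq : ∀ t ∈ C, orderOf t = 2 → t = u := by
    intro t ht hto
    have h1 := IsCyclic.card_orderOf_eq_totient (α := C) (d := 2)
      (by rw [← Nat.card_eq_fintype_card, hC]; norm_num)
    have hle := Finset.card_le_one.mp (by rw [h1]; decide : (Finset.univ.filter fun a : C => orderOf a = 2).card ≤ 1)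
    have := hle ⟨t, ht⟩ (Finset.mem_filter.mpr ⟨Finset.mem_univ _, by rw [Subgroup.orderOf_mk, hto]⟩)
      u0 (Finset.mem_filter.mpr ⟨Finset.mem_univ _, hu0⟩)
    exact congrArg Subtype.val this
  have hPy : ∀ x : G, x ∈ (P : Subgroup G) → x * u = u * x := fun x hx =>
    mem_centralizer_iff.mp huC x hx
  -- at most one involution centralizes a given element of order five
  have huniq' : ∀ y : G, orderOf y = 5 → ∀ s t : G, orderOf s = 2 → orderOf t = 2 →
      s * y = y * s → t * y = y * t → s = t := by
    intro y hy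
    let Q : Sylow 5 G := Sylow.ofCard (zpowers y) (by
      rw [Nat.card_zpowers, hy]; exact hP.symm.trans P.card_eq_multiplicity)
    obtain ⟨g, hg⟩ := MulAction.exists_smul_eq G P Q
    have key : ∀ s : G, orderOf s = 2 → s * y = y * s → s = g * u * g⁻¹ := by
      intro s hs hsy
      have hsC : g⁻¹ * s * g ∈ C := by
        rw [hCdef, mem_centralizer_iff]
        intro x hx
        have hxQ : g * x * g⁻¹ ∈ (Q : Subgroup G) := by
          rw [← hg, Sylow.coe_subgroup_smul]
          exact ⟨x, hx, by simp [MulAut.conj_apply]⟩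
        obtain ⟨i, hi⟩ := mem_zpowers_iff.mp (show g * x * g⁻¹ ∈ zpowers y from hxQ)
        have hcom : s * (g * x * g⁻¹) = g * x * g⁻¹ * s := by
          rw [← hi]; exact (Commute.zpow_right hsy i).eq
        calc x * (g⁻¹ * s * g) = g⁻¹ * (g * x * g⁻¹ * s) * g := by group
          _ = g⁻¹ * (s * (g * x * g⁻¹)) * g := by rw [hcom]
          _ = g⁻¹ * s * g * x := by group
      have ho : orderOf (g⁻¹ * s * g) = 2 := by
        rw [show g⁻¹ * s * g = MulAut.conj g⁻¹ s by simp [MulAut.conj_apply], MulEquiv.orderOf_eq, hs]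
      rw [← huniq _ hsC ho]
      group
    intro s t hs ht hsy hty
    rw [key s hs hsy, key t ht hty]
  -- the centralizer of `u` contains the normalizer
  set K := centralizer ({u} : Set G) with hKdef
  have hNK : N ≤ K := by
    intro g hg
    rw [hKdef, mem_centralizer_singleton_iff]
    have hmem : g * u * g⁻¹ ∈ C := by
      rw [hCdef, mem_centralizer_iff]
      intro x hx
      have hx' : g⁻¹ * x * g ∈ (P : Subgroup G) := by
        have := (mem_normalizer_iff.mp (inv_mem hg) x).mp hx
        rwa [inv_inv] at this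
      calc x * (g * u * g⁻¹) = g * (g⁻¹ * x * g * u) * g⁻¹ := by group
        _ = g * (u * (g⁻¹ * x * g)) * g⁻¹ := by rw [hPy _ hx']
        _ = g * u * g⁻¹ * x := by group
    have := huniq _ hmem (by
      rw [show g * u * g⁻¹ = MulAut.conj g u by simp [MulAut.conj_apply], MulEquiv.orderOf_eq, hu])
    exact mul_inv_eq_iff_eq_mul.mp this
  have hPK : (P : Subgroup G) ≤ K := (le_normalizer).trans hNK
  obtain ⟨k, hk⟩ : 20 ∣ Nat.card K := hN ▸ card_dvd_of_le hNK
  let PK : Sylow 5 K := P.subtype hPK
  have hkmod : k % 5 = 1 := by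
    have h1 := PK.card_eq_index_normalizer
    have h2 : normalizer ((PK : Subgroup K) : Set K) = N.subgroupOf K := by
      rw [Sylow.coe_subtype, ← subgroupOf_normalizer_eq hPK]
    have h3 := (N.subgroupOf K).index_mul_card
    rw [Nat.card_congr (subgroupOfEquivOfLe hNK).toEquiv, hN, hk] at h3
    have h4 : Nat.card (Sylow 5 K) % 5 = 1 := card_sylow_modEq_one 5 K
    rw [h1] at h4
    change (normalizer ((PK : Subgroup K) : Set K)).index % 5 = 1 at h4
    rw [h2, show (N.subgroupOf K).index = k by omega] at h4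
    exact h4
  have hkdvd : k ∣ 216 := by
    have h1 := K.card_subgroup_dvd_card
    rw [hk, hcard, show (4320 : ℕ) = 20 * 216 by norm_num] at h1
    exact Nat.dvd_of_mul_dvd_mul_left (by norm_num) h1
  have hKidx : K.index * k = 216 := by
    have := K.index_mul_card
    rw [hk, hcard] at this
    nlinarith
  have hclass : Nat.card {g : G // IsConj u g} = K.index :=
    (H25.index_centralizer_eq_card_class u).symm
  have hk6 : k = 6 := by
    have hcases : k = 1 ∨ k = 6 ∨ k = 36 ∨ k = 216 := by
      have hmem : k ∈ Nat.divisors 216 := Nat.mem_divisors.mpr ⟨hkdvd, by norm_num⟩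
      have hall : ∀ j ∈ Nat.divisors 216, j % 5 = 1 → j = 1 ∨ j = 6 ∨ j = 36 ∨ j = 216 := by
        decide +kernel
      exact hall k hmem hkmod
    rcases hcases with rfl | rfl | rfl | rfl
    · exfalso
      have huN : u ∈ N := hCN huC
      have hNidx : N.index = 216 := by
        have := N.index_mul_card
        rw [hN, hcard] at this
        omega
      have h := S1019.result N u huN
      rw [hclass, hNidx, show K.index = 216 by omega, Nat.mul_comm 216] at h
      set T := {g : G // IsConj u g ∧ g ∈ N} with hT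
      have ht : Nat.card (MulAction.fixedBy (G ⧸ N) u) = Nat.card T :=
        Nat.eq_of_mul_eq_mul_right (by norm_num) h
      have h4 := H30.card_fixedBy_involution_mod_four hG N (u := u) (by rw [sq, hu2])
      rw [ht, hNidx] at h4
      -- congruence modulo five
      have h5 : Nat.card T % 5 = 1 := by
        let _ : MulAction (P : Subgroup G) T :=
          { smul := fun p x => ⟨(p : G) * x.1 * (p : G)⁻¹, x.2.1.trans (isConj_iff.mpr ⟨_, rfl⟩),
              mul_mem (mul_mem (le_normalizer p.2) x.2.2) (inv_mem (le_normalizer p.2))⟩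
            one_smul := fun x => Subtype.ext (show (1 : G) * x.1 * (1 : G)⁻¹ = x.1 by group)
            mul_smul := fun p q x => Subtype.ext (show (p * q : G) * x.1 * (p * q : G)⁻¹ =
              (p : G) * ((q : G) * x.1 * (q : G)⁻¹) * (p : G)⁻¹ by group) }
        have hfix : ∀ x : T, x ∈ MulAction.fixedPoints (P : Subgroup G) T ↔
            x = ⟨u, IsConj.refl u, huN⟩ := by
          intro x
          constructor
          · intro hx
            refine Subtype.ext (huniq x.1 ?_ ?_)
            · rw [hCdef, mem_centralizer_iff]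
              intro p hp
              exact mul_inv_eq_iff_eq_mul.mp (congrArg Subtype.val (hx ⟨p, hp⟩))
            · obtain ⟨g, hg⟩ := isConj_iff.mp x.2.1
              rw [← hg, show g * u * g⁻¹ = MulAut.conj g u by simp [MulAut.conj_apply],
                MulEquiv.orderOf_eq, hu]
          · rintro rfl p
            exact Subtype.ext (mul_inv_eq_iff_eq_mul.mpr (hPy p.1 p.2))
        have h1 := P.2.card_modEq_card_fixedPoints T
        have : Unique (MulAction.fixedPoints (P : Subgroup G) T) :=
          { default := ⟨⟨u, IsConj.refl u, huN⟩, (hfix _).mpr rfl⟩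
            uniq := fun x => Subtype.ext ((hfix _).mp x.2) }
        rw [Nat.card_unique (α := MulAction.fixedPoints (P : Subgroup G) T)] at h1
        exact h1
      have h11 : Nat.card T ≤ 11 := by
        rw [hT, Nat.card_eq_fintype_card, Fintype.card_subtype]
        have hsub : (Finset.univ.filter fun g => IsConj u g ∧ g ∈ N) ⊆
            insert u ((N : Set G).toFinset \ (C : Set G).toFinset) := by
          intro g hg
          obtain ⟨hgu, hgN⟩ := (Finset.mem_filter.mp hg).2
          rcases em (g ∈ C) with hgC | hgC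
          · obtain ⟨x, hx⟩ := isConj_iff.mp hgu
            exact Finset.mem_insert.mpr (Or.inl (huniq g hgC (by
              rw [← hx, show x * u * x⁻¹ = MulAut.conj x u by simp [MulAut.conj_apply],
                MulEquiv.orderOf_eq, hu])))
          · exact Finset.mem_insert_of_mem (Finset.mem_sdiff.mpr
              ⟨Set.mem_toFinset.mpr hgN, fun h => hgC (Set.mem_toFinset.mp h)⟩)
        refine (Finset.card_le_card hsub).trans ((Finset.card_insert_le _ _).trans ?_)
        rw [Finset.card_sdiff_of_subset (Set.toFinset_mono hCN), Set.toFinset_card,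
          Set.toFinset_card, ← Nat.card_eq_fintype_card, ← Nat.card_eq_fintype_card]
        change Nat.card N - Nat.card C + 1 ≤ 11
        rw [hN, hC]
      omega
    · rfl
    · exfalso
      have h6 : K.index = 6 := by omega
      have := H30.two_mul_card_dvd_factorial hG K (fun h => by rw [h, index_top] at h6; omega)
      rw [h6, hcard] at this
      exact absurd this (by decide +kernel)
    · exfalso
      exact H30.index_centralizer_ne_prime_pow hG Nat.prime_two hu1 0 (by
        show K.index = 2 ^ 0; omega)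
  subst hk6
  have hK120 : Nat.card K = 120 := by rw [hk]
  have h36 : K.index = 36 := by omega
  -- the quotient modulo `u`
  have huK : u ∈ K := by rw [hKdef, mem_centralizer_singleton_iff]
  let U : Subgroup K := zpowers ⟨u, huK⟩
  have hUc : U ≤ center K := by
    refine zpowers_le.mpr (mem_center_iff.mpr fun x => Subtype.ext ?_)
    exact mem_centralizer_singleton_iff.mp x.2
  have hUn : U.Normal :=
    ⟨fun a ha g => by rw [mem_center_iff.mp (hUc ha) g, mul_inv_cancel_right]; exact ha⟩
  have hQ : Nat.card (K ⧸ U) = 60 := by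
    have := card_eq_card_quotient_mul_card_subgroup U
    rw [hK120, Nat.card_zpowers, Subgroup.orderOf_mk, hu] at this
    omega
  have hsimple : IsSimpleGroup (K ⧸ U) := by
    refine S3669.simple_sixty hQ fun R hR => ?_
    let _ := Sylow.unique_of_normal R hR
    have h1 : Nat.card (Sylow 5 (K ⧸ U)) = 1 := Nat.card_unique
    rw [H31.card_sylow_quotient (QuotientGroup.mk' U) (QuotientGroup.mk'_surjective U)
      (fun S => by
        rw [QuotientGroup.ker_mk']
        refine hUc.trans ?_
        intro x hx
        rw [mem_normalizer_iff]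
        intro y
        rw [← mem_center_iff.mp hx y, mul_inv_cancel_right])] at h1
    have : Subsingleton (Sylow 5 K) := (Nat.card_eq_one_iff_unique.mp h1).1
    have h2 := PK.normal_of_subsingleton
    rw [Sylow.coe_subtype] at h2
    have h3 := (normal_subgroupOf_iff_le_normalizer hPK).mp h2
    have := card_dvd_of_le h3
    rw [hK120, hN] at this
    norm_num at this
  obtain ⟨e⟩ := S0494.result (G := K ⧸ U) hQ
  let π : K →* alternatingGroup (Fin 5) := e.toMonoidHom.comp (QuotientGroup.mk' U)
  have hker : ∀ x : K, π x = 1 ↔ x = 1 ∨ x = ⟨u, huK⟩ := by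
    intro x
    rw [show π x = e (QuotientGroup.mk' U x) from rfl, EmbeddingLike.map_eq_one_iff,
      QuotientGroup.mk'_apply, QuotientGroup.eq_one_iff]
    constructor
    · intro hx
      obtain ⟨i, hi⟩ := mem_zpowers_iff.mp hx
      rcases Int.even_or_odd i with ⟨j, rfl⟩ | ⟨j, rfl⟩
      · left
        rw [← hi, ← two_mul, zpow_mul, zpow_two,
          show (⟨u, huK⟩ : K) * ⟨u, huK⟩ = 1 from Subtype.ext hu2, one_zpow]
      · right
        rw [← hi, zpow_add, zpow_one, zpow_mul, zpow_two,
          show (⟨u, huK⟩ : K) * ⟨u, huK⟩ = 1 from Subtype.ext hu2, one_zpow, one_mul]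
    · rintro (rfl | rfl)
      · exact one_mem _
      · exact mem_zpowers _
  let φ : G → alternatingGroup (Fin 5) := fun x => if h : x ∈ K then π ⟨x, h⟩ else 1
  have hφ : ∀ x (h : x ∈ K), φ x = π ⟨x, h⟩ := fun x h => dif_pos h
  have hmK : ∀ {x}, x ∈ commNbrs u u → x ∈ K := fun {x} hx => by
    rw [hKdef, mem_centralizer_singleton_iff]
    exact (mem_commNbrs.mp hx).2.2.symm
  have hord : ∀ {x}, IsConj u x → orderOf x = 2 := fun {x} hx => by
    obtain ⟨g, hg⟩ := isConj_iff.mp hx
    rw [← hg, show g * u * g⁻¹ = MulAut.conj g u by simp [MulAut.conj_apply],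
      MulEquiv.orderOf_eq, hu]
  have hmul : ∀ {x}, IsConj u x → x * x = 1 := fun {x} hx => by
    rw [← sq, ← hord hx, pow_orderOf_eq_one]
  have hinv : ∀ {x}, x ∈ commNbrs u u → φ x * φ x = 1 ∧ φ x ≠ 1 := fun {x} hx => by
    refine ⟨?_, fun h => ?_⟩
    · rw [hφ x (hmK hx), ← map_mul]
      exact (hker _).mpr (Or.inl (Subtype.ext (hmul (mem_commNbrs.mp hx).1)))
    · rw [hφ x (hmK hx), hker] at h
      rcases h with h | h
      · have := hord (mem_commNbrs.mp hx).1
        rw [show x = 1 from congrArg Subtype.val h, orderOf_one] at this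
        norm_num at this
      · exact (mem_commNbrs.mp hx).2.1 (congrArg Subtype.val h)
  have hfib : ∀ {x y}, x ∈ commNbrs u u → y ∈ commNbrs u u → φ x = φ y → y = x ∨ y = x * u := by
    intro x y hx hy h
    rw [hφ x (hmK hx), hφ y (hmK hy)] at h
    have h1 : π (⟨x, hmK hx⟩⁻¹ * ⟨y, hmK hy⟩) = 1 := by
      rw [map_mul, map_inv, h, inv_mul_cancel]
    rcases (hker _).mp h1 with h2 | h2
    · exact Or.inl (congrArg Subtype.val (inv_mul_eq_one.mp h2)).symm
    · exact Or.inr (congrArg Subtype.val (inv_mul_eq_iff_eq_mul.mp h2))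
  -- the count of neighbours
  set M := commNbrs u u with hM
  set Inv := Finset.univ.filter fun t : alternatingGroup (Fin 5) => t * t = 1 ∧ t ≠ 1 with hInv
  have hclassM : Nat.card {g : G // IsConj u g ∧ g ∈ K} = M.card + 1 := by
    rw [Nat.card_eq_fintype_card, Fintype.card_subtype,
      ← Finset.card_insert_of_notMem (a := u) (fun h => (mem_commNbrs.mp h).2.1 rfl)]
    congr 1
    ext g
    simp only [Finset.mem_filter, Finset.mem_univ, true_and, Finset.mem_insert]
    constructor
    · rintro ⟨h1, h2⟩
      by_cases hg : g = u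
      · exact Or.inl hg
      · exact Or.inr (mem_commNbrs.mpr ⟨h1, hg, (mem_centralizer_singleton_iff.mp h2).symm⟩)
    · rintro (rfl | h)
      · exact ⟨IsConj.refl _, huK⟩
      · exact ⟨(mem_commNbrs.mp h).1, hmK h⟩
  have hmod : (M.card + 1) % 4 = 0 := by
    have h := S1019.result K u huK
    rw [hclass, h36, hclassM, Nat.mul_comm 36] at h
    have h4 := H30.card_fixedBy_involution_mod_four hG K (u := u) (by rw [sq, hu2])
    rw [Nat.eq_of_mul_eq_mul_right (by norm_num) h, h36] at h4
    exact h4
  have hconj : ∀ x ∈ M, ∀ g : K, (g : G) * x * (g : G)⁻¹ ∈ M ∧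
      φ ((g : G) * x * (g : G)⁻¹) = π g * φ x * (π g)⁻¹ := by
    intro x hx g
    obtain ⟨h1, h2, h3⟩ := mem_commNbrs.mp hx
    have hgu : (g : G) * u * (g : G)⁻¹ = u :=
      mul_inv_eq_iff_eq_mul.mpr (mem_centralizer_singleton_iff.mp g.2)
    have hmem : (g : G) * x * (g : G)⁻¹ ∈ M := by
      refine mem_commNbrs.mpr ⟨h1.trans (isConj_iff.mpr ⟨g.1, rfl⟩), fun h => h2 ?_, ?_⟩
      · exact mul_left_cancel (mul_right_cancel (h.trans hgu.symm))
      · conv_lhs => rw [← hgu]
        conv_rhs => rw [← hgu]
        rw [conj_mul, conj_mul, h3]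
    refine ⟨hmem, ?_⟩
    rw [hφ x (hmK hx), hφ _ (hmK hmem), ← map_inv, ← map_mul, ← map_mul]
    rfl
  have hsurj : ∀ a, ∃ g : K, π g = a := e.surjective.comp (QuotientGroup.mk'_surjective U)
  have hM0 : M.Nonempty := Finset.card_pos.mp (by omega)
  have himg : M.image φ = Inv := by
    apply Finset.Subset.antisymm
    · intro t ht
      obtain ⟨x, hx, rfl⟩ := Finset.mem_image.mp ht
      simp [hInv, hinv hx]
    · intro t ht
      obtain ⟨x, hx⟩ := hM0
      obtain ⟨a, ha⟩ := altFive_involutions_conj (φ x) t (hinv hx).1 (hinv hx).2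
        (Finset.mem_filter.mp ht).2.1 (Finset.mem_filter.mp ht).2.2
      obtain ⟨g, rfl⟩ := hsurj a
      exact Finset.mem_image.mpr ⟨_, (hconj x hx g).1, (hconj x hx g).2.trans ha⟩
  have hfib2 : ∀ x ∈ M, (M.filter fun y => φ y = φ x) ⊆ {x, x * u} := by
    intro x hx y hy
    obtain ⟨hy, h⟩ := Finset.mem_filter.mp hy
    simpa using hfib hx hy h.symm
  have hn : M.card = 15 := by
    by_cases hinj : ∀ x ∈ M, ∀ y ∈ M, φ x = φ y → x = y
    · rw [← Finset.card_image_of_injOn (f := φ) hinj, himg, hInv, altFive_card_involutions]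
    · exfalso
      push Not at hinj
      obtain ⟨x, hx, y, hy, hxy, hne⟩ := hinj
      have hxu : x * u ∈ M := by
        rcases hfib hx hy hxy with h | h
        · exact absurd h.symm hne
        · exact h ▸ hy
      have htwo : ∀ t ∈ Inv, (M.filter fun y => φ y = t).card = 2 := by
        intro t ht
        obtain ⟨a, ha⟩ := altFive_involutions_conj (φ x) t (hinv hx).1 (hinv hx).2
          (Finset.mem_filter.mp ht).2.1 (Finset.mem_filter.mp ht).2.2
        obtain ⟨g, rfl⟩ := hsurj a
        set w := (g : G) * x * (g : G)⁻¹ with hw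
        have hw1 := hconj x hx g
        have hw2 := hconj (x * u) hxu g
        have he : (g : G) * (x * u) * (g : G)⁻¹ = w * u := by
          have hgu : (g : G) * u * (g : G)⁻¹ = u :=
            mul_inv_eq_iff_eq_mul.mpr (mem_centralizer_singleton_iff.mp g.2)
          rw [← conj_mul, hgu, hw]
        rw [he] at hw2
        have hφeq : φ (x * u) = φ x := by
          rw [hφ x (hmK hx), hφ _ (hmK hxu),
            show (⟨x * u, hmK hxu⟩ : K) = ⟨x, hmK hx⟩ * ⟨u, huK⟩ from rfl, map_mul,
            (hker ⟨u, huK⟩).mpr (Or.inr rfl), mul_one]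
        have hne' : w ≠ w * u := fun h => hu1 (mul_eq_left.mp h.symm)
        have e2 : (M.filter fun y => φ y = t) = {w, w * u} := by
          apply Finset.Subset.antisymm
          · rw [show t = φ w from ha.symm.trans hw1.2.symm]
            exact hfib2 w hw1.1
          · intro y hy
            rcases Finset.mem_insert.mp hy with rfl | hy
            · exact Finset.mem_filter.mpr ⟨hw1.1, hw1.2.trans ha⟩
            · rw [Finset.mem_singleton.mp hy]
              exact Finset.mem_filter.mpr ⟨hw2.1, by rw [hw2.2, hφeq, ha]⟩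
        rw [e2, Finset.card_pair hne']
      have h30 := Finset.card_eq_sum_card_fiberwise (f := φ) (t := Inv) (s := M)
        (fun z hz => himg ▸ Finset.mem_image_of_mem φ hz)
      rw [Finset.sum_congr rfl htwo, Finset.sum_const, hInv, altFive_card_involutions,
        smul_eq_mul] at h30
      omega
  have hinj : Set.InjOn φ M :=
    Finset.card_image_iff.mp (by rw [himg, hInv, altFive_card_involutions, hn])
  have hcX : (classSet u).card = 36 := by
    rw [← h36, ← hclass, Nat.card_eq_fintype_card, Fintype.card_subtype]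
    congr 1
  refine no_commuting_graph hcX hn (fun w hw => ?_) (fun w hw hwu hwM => ?_)
  · -- adjacent vertices
    rw [← Finset.card_image_of_injOn (f := φ) (fun a ha b hb h =>
      hinj (Finset.mem_inter.mp ha).1 (Finset.mem_inter.mp hb).1 h)]
    refine (Finset.card_le_card ?_).trans (altFive_commuting (φ w) (hinv hw).1 (hinv hw).2)
    intro t ht
    obtain ⟨x, hx, rfl⟩ := Finset.mem_image.mp ht
    obtain ⟨hxM, hxw⟩ := Finset.mem_inter.mp hx
    obtain ⟨-, hne, hcom⟩ := mem_commNbrs.mp hxw
    refine Finset.mem_filter.mpr ⟨Finset.mem_univ _, (hinv hxM).1, (hinv hxM).2,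
      fun h => hne (hinj hxM hw h), ?_⟩
    rw [hφ w (hmK hw), hφ x (hmK hxM), ← map_mul, ← map_mul]
    exact congrArg π (Subtype.ext hcom)
  · -- non-adjacent vertices
    rcases (M ∩ commNbrs u w).eq_empty_or_nonempty with h0 | ⟨x, hx⟩
    · rw [h0]; simp
    obtain ⟨hxM, hxw⟩ := Finset.mem_inter.mp hx
    rw [← Finset.card_erase_add_one hx]
    refine Nat.succ_le_succ ?_
    rw [← Finset.card_image_of_injOn (f := φ) (fun a ha b hb h =>
      hinj (Finset.mem_inter.mp (Finset.mem_of_mem_erase ha)).1
        (Finset.mem_inter.mp (Finset.mem_of_mem_erase hb)).1 h)]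
    refine (Finset.card_le_card ?_).trans (altFive_no_order_five (φ x) (hinv hxM).1 (hinv hxM).2)
    intro t ht
    obtain ⟨y, hy, rfl⟩ := Finset.mem_image.mp ht
    obtain ⟨hne, hy⟩ := Finset.mem_erase.mp hy
    obtain ⟨hyM, hyw⟩ := Finset.mem_inter.mp hy
    refine Finset.mem_filter.mpr ⟨Finset.mem_univ _, (hinv hyM).1, (hinv hyM).2,
      fun h => hne (hinj hyM hxM h), fun h5 => ?_⟩
    set q : K := ⟨x, hmK hxM⟩ * ⟨y, hmK hyM⟩ with hq
    have hπq : π q = φ x * φ y := by rw [hφ x (hmK hxM), hφ y (hmK hyM), ← map_mul]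
    have hq10 : (q ^ 2) ^ 5 = 1 := by
      rw [← hπq, ← map_pow] at h5
      rcases (hker _).mp h5 with h | h
      · rw [← pow_mul, mul_comm, pow_mul, h, one_pow]
      · rw [← pow_mul, mul_comm, pow_mul, h]
        exact Subtype.ext (by simpa [sq] using hu2)
    have hq2 : q ^ 2 ≠ 1 := by
      intro h
      have h2 : (φ x * φ y) ^ 2 = 1 := by rw [← hπq, ← map_pow, h, map_one]
      have h1 : φ x * φ y = 1 := by
        calc φ x * φ y = (φ x * φ y) ^ 5 * (((φ x * φ y) ^ 2) ^ 2)⁻¹ := by group
          _ = 1 := by rw [h5, h2, one_pow, inv_one, mul_one]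
      apply hne
      refine hinj hyM hxM ?_
      calc φ y = φ x * (φ x * φ y) := by rw [← mul_assoc, (hinv hxM).1, one_mul]
        _ = φ x := by rw [h1, mul_one]
    have ho : orderOf ((q ^ 2 : K) : G) = 5 := by
      rw [Subgroup.orderOf_coe]
      exact orderOf_eq_prime hq10 hq2
    have hcu : u * ((q ^ 2 : K) : G) = ((q ^ 2 : K) : G) * u :=
      (mem_centralizer_singleton_iff.mp (q ^ 2).2).symm
    have hcw : w * ((q ^ 2 : K) : G) = ((q ^ 2 : K) : G) * w := by
      have c1 : Commute w x := (mem_commNbrs.mp hxw).2.2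
      have c2 : Commute w y := (mem_commNbrs.mp hyw).2.2
      exact ((c1.mul_right c2).pow_right 2).eq
    exact hwu (huniq' _ ho w u (hord (mem_classSet.mp hw)) hu hcw hcu)

end Cfsg.Agent.H28.SmallOrders
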