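import Cfsg.Agent.H28.SmallOrders.Order5040
import Cfsg.Agent.H30.PermNormalizer
import Cfsg.Agent.H30.SylowPrimeCases
import Cfsg.Agent.S1019

/-!
# Order 5040: the Sylow 7-subgroups
-/

set_option autoImplicit false
set_option synthInstance.maxSize 1024

namespace Cfsg.Agent.H28.SmallOrders

open Subgroup

variable {G : Type*} [Group G] [Fintype G] [IsSimpleGroup G]

omit [IsSimpleGroup G] in
/-- An involution centralizes a subgroup of order four once four divides the group order. -/
theorem four_dvd_card_centralizer_involution (h4 : 4 ∣ Nat.card G) {u : G} (hu : orderOf u = 2) :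
    4 ∣ Nat.card (centralizer ({u} : Set G)) := by
  have : Fact (Nat.Prime 2) := ⟨Nat.prime_two⟩
  obtain ⟨K, hK, hle⟩ := Sylow.exists_subgroup_card_pow_succ (p := 2) (n := 1)
    (by simpa using h4) (H := zpowers u) (by rw [Nat.card_zpowers, hu, pow_one])
  have : IsMulCommutative K := IsPGroup.isMulCommutative_of_card_eq_prime_sq hK
  have h1 : K ≤ centralizer ({u} : Set G) :=
    (le_centralizer K).trans (centralizer_le (Set.singleton_subset_iff.mpr (hle (mem_zpowers u))))
  exact (dvd_of_eq (hK.trans (by norm_num)).symm).trans (card_dvd_of_le h1)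

/-- A subgroup containing a Sylow `p`-subgroup of order `p`: the index of the Sylow normalizer in
it is `1` modulo `p`. -/
theorem index_normalizer_inf_mod {p : ℕ} [Fact p.Prime] (hp1 : 1 < p) (P : Sylow p G)
    (K : Subgroup G) (hPK : (P : Subgroup G) ≤ K) :
    ∃ k, Nat.card K = k * Nat.card ↥(normalizer ((P : Subgroup G) : Set G) ⊓ K) ∧ k % p = 1 := by
  let PK : Sylow p K := P.subtype hPK
  set N := normalizer ((P : Subgroup G) : Set G)
  have h2 : normalizer ((PK : Subgroup K) : Set K) = N.subgroupOf K := by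
    rw [Sylow.coe_subtype, ← subgroupOf_normalizer_eq hPK]
  refine ⟨(N.subgroupOf K).index, ?_, ?_⟩
  · have h3 := (N.subgroupOf K).index_mul_card
    rw [← inf_subgroupOf_right, Nat.card_congr (subgroupOfEquivOfLe (inf_le_right : N ⊓ K ≤ K)).toEquiv]
      at h3
    rw [← inf_subgroupOf_right]
    exact h3.symm
  · have h1 : Nat.card (Sylow p K) % p = 1 := by
      have := card_sylow_modEq_one p K
      rwa [Nat.ModEq, Nat.one_mod_eq_one.mpr (by omega)] at this
    rw [PK.card_eq_index_normalizer] at h1
    change (normalizer ((PK : Subgroup K) : Set K)).index % p = 1 at h1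
    rwa [h2] at h1

/-- Eight Sylow 7-subgroups: the normalizer is too large. -/
theorem card_sylow_seven_ne_eight (hG : ¬ IsMulCommutative G) (hcard : Nat.card G = 5040)
    (P : Sylow 7 G) (hP : Nat.card (P : Subgroup G) = 7) (hn : Nat.card (Sylow 7 G) = 8) :
    False := by
  classical
  have : Fact (Nat.Prime 7) := ⟨by norm_num⟩
  set N := normalizer ((P : Subgroup G) : Set G) with hN
  have hidx : N.index = 8 := P.card_eq_index_normalizer.symm.trans hn
  obtain ⟨f, hf⟩ := H30.exists_hom_alternating hG N (fun h => by rw [h, index_top] at hidx; omega)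
  let φ : G →* Equiv.Perm (Fin N.index) := (alternatingGroup (Fin N.index)).subtype.comp f
  have hφ : Function.Injective φ := Subtype.val_injective.comp hf
  have hα : Fintype.card (Fin N.index) = 8 := by rw [Fintype.card_fin, hidx]
  have hQc : Nat.card ((P : Subgroup G).map φ) = 7 := by rw [card_map_of_injective hφ, hP]
  let Q0 : Sylow 7 (Equiv.Perm (Fin N.index)) := default
  let Q : Sylow 7 (Equiv.Perm (Fin N.index)) := Sylow.ofCard ((P : Subgroup G).map φ) (by
    rw [hQc, ← Q0.card_eq_multiplicity,
      H30.card_sylow_perm_lt_two_mul (by omega) (by omega) Q0])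
  have hQN := H30.card_normalizer_sylow_perm (by omega) (by omega) Q
  have hle : N.map φ ≤ normalizer ((Q : Subgroup (Equiv.Perm (Fin N.index))) : Set _) := by
    show N.map φ ≤ normalizer (((P : Subgroup G).map φ : Subgroup _) : Set _)
    exact le_normalizer_map φ
  have h1 := card_dvd_of_le hle
  rw [card_map_of_injective hφ, hQN, hα] at h1
  have h630 : Nat.card N = 630 := by
    have := N.index_mul_card
    rw [hidx, hcard] at this
    omega
  rw [h630] at h1
  norm_num [Nat.factorial] at h1

/-- A centralizer of order 21: the element of order 3 in it has no possible centralizer. -/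
theorem card_centralizer_seven_ne_twentyone (hG : ¬ IsMulCommutative G) (hcard : Nat.card G = 5040)
    (P : Sylow 7 G) (hP : Nat.card (P : Subgroup G) = 7)
    (hN : Nat.card (normalizer ((P : Subgroup G) : Set G)) = 42)
    (hC : Nat.card (centralizer ((P : Subgroup G) : Set G)) = 21) : False := by
  classical
  have : Fact (Nat.Prime 7) := ⟨by norm_num⟩
  have : Fact (Nat.Prime 3) := ⟨by norm_num⟩
  set N := normalizer ((P : Subgroup G) : Set G) with hNdef
  obtain ⟨w0, hw0⟩ := exists_prime_orderOf_dvd_card' (G := centralizer ((P : Subgroup G) : Set G)) 3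
    (by rw [hC]; norm_num)
  set w : G := w0.1 with hwdef
  have hw : orderOf w = 3 := (Subgroup.orderOf_coe w0).trans hw0
  have hw1 : w ≠ 1 := fun h => by rw [h, orderOf_one] at hw; norm_num at hw
  set K := centralizer ({w} : Set G) with hK
  have hPK : (P : Subgroup G) ≤ K := fun y hy => by
    rw [hK, mem_centralizer_singleton_iff]
    exact mem_centralizer_iff.mp w0.2 y hy
  have hwK : w ∈ K := by rw [hK, mem_centralizer_singleton_iff]
  obtain ⟨S, hS⟩ := (IsPGroup.of_card (p := 3) (n := 1)
    (by rw [Nat.card_zpowers, hw, pow_one] : Nat.card (zpowers w) = 3 ^ 1)).exists_le_sylow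
  have hSc : Nat.card (S : Subgroup G) = 3 ^ 2 :=
    H30.card_sylow_subgroup (m := 560) S (by rw [hcard]; norm_num) (by norm_num)
  have : IsMulCommutative (S : Subgroup G) := IsPGroup.isMulCommutative_of_card_eq_prime_sq hSc
  have hSK : (S : Subgroup G) ≤ K :=
    (le_centralizer _).trans (centralizer_le (Set.singleton_subset_iff.mpr (hS (mem_zpowers w))))
  obtain ⟨m, hm⟩ : 7 * 3 ^ 2 ∣ Nat.card K :=
    Nat.Coprime.mul_dvd_of_dvd_of_dvd (by norm_num) ((dvd_of_eq hP.symm).trans (card_dvd_of_le hPK))
      ((dvd_of_eq hSc.symm).trans (card_dvd_of_le hSK))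
  have hj : 21 ∣ Nat.card ↥(N ⊓ K) := by
    refine (Nat.Coprime.mul_dvd_of_dvd_of_dvd (by norm_num : Nat.Coprime 7 3)
      ((dvd_of_eq hP.symm).trans (card_dvd_of_le (le_inf le_normalizer hPK))) ?_)
    have hwN : w ∈ N ⊓ K := ⟨H30.centralizer_le_normalizer _ w0.2, hwK⟩
    exact hw ▸ Subgroup.orderOf_dvd_natCard _ hwN
  obtain ⟨k, hk, hk7⟩ := index_normalizer_inf_mod (by norm_num) P K hPK
  have hidx := K.index_mul_card
  rw [hm, hcard] at hidx
  have hmk : m * K.index = 80 := by nlinarith
  have hm80 : m ∈ Nat.divisors 80 := Nat.mem_divisors.mpr ⟨⟨_, hmk.symm⟩, by norm_num⟩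
  have hd : Nat.card ↥(N ⊓ K) ∣ 42 := hN ▸ card_dvd_of_le inf_le_left
  have h2142 : Nat.card ↥(N ⊓ K) = 21 ∨ Nat.card ↥(N ⊓ K) = 42 := by
    obtain ⟨i, hi⟩ := hj
    rw [hi] at hd ⊢
    obtain ⟨r, hr⟩ := hd
    have : i * r = 2 := by nlinarith
    have := (Nat.dvd_prime Nat.prime_two).mp ⟨r, this.symm⟩
    omega
  have hpp : ∀ b : ℕ, ∀ r, r.Prime → K.index ≠ r ^ b := fun b r hr =>
    H30.index_centralizer_ne_prime_pow hG hr hw1 b
  have hall : ∀ j ∈ Nat.divisors 80, j = 1 ∨ j = 2 ∨ j = 4 ∨ j = 5 ∨ j = 8 ∨ j = 10 ∨ j = 16 ∨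
      j = 20 ∨ j = 40 ∨ j = 80 := by decide +kernel
  rw [hm] at hk
  rcases hall m hm80 with rfl | rfl | rfl | rfl | rfl | rfl | rfl | rfl | rfl | rfl
  · rcases h2142 with h | h <;> rw [h] at hk <;> omega
  · rcases h2142 with h | h <;> rw [h] at hk <;> omega
  · rcases h2142 with h | h <;> rw [h] at hk <;> omega
  · exact hpp 4 2 Nat.prime_two (by omega)
  · rcases h2142 with h | h <;> rw [h] at hk <;> omega
  · exact hpp 3 2 Nat.prime_two (by omega)
  · exact hpp 1 5 (by norm_num) (by omega)
  · exact hpp 2 2 Nat.prime_two (by omega)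
  · exact hpp 1 2 Nat.prime_two (by omega)
  · exact hpp 0 2 Nat.prime_two (by omega)

/-- A centralizer of order 14: its involution would lie in the core of its centralizer. -/
theorem card_centralizer_seven_ne_fourteen (hG : ¬ IsMulCommutative G) (hcard : Nat.card G = 5040)
    (P : Sylow 7 G) (hP : Nat.card (P : Subgroup G) = 7)
    (hN : Nat.card (normalizer ((P : Subgroup G) : Set G)) = 42)
    (hC : Nat.card (centralizer ((P : Subgroup G) : Set G)) = 14) : False := by
  classical
  have : Fact (Nat.Prime 7) := ⟨by norm_num⟩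
  have : Fact (Nat.Prime 2) := ⟨Nat.prime_two⟩
  set N := normalizer ((P : Subgroup G) : Set G) with hNdef
  set C := centralizer ((P : Subgroup G) : Set G) with hCdef
  have hPC : (P : Subgroup G) ≤ C := by
    have : IsCyclic (P : Subgroup G) := isCyclic_of_prime_card hP
    have : IsMulCommutative (P : Subgroup G) := IsCyclic.isMulCommutative
    exact le_centralizer _
  obtain ⟨z, hz⟩ := exists_prime_orderOf_dvd_card' (G := (P : Subgroup G)) 7 (dvd_of_eq hP.symm)
  obtain ⟨u0, hu0⟩ := exists_prime_orderOf_dvd_card' (G := C) 2 (by rw [hC]; norm_num)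
  have : IsCyclic C := by
    refine isCyclic_of_orderOf_eq_card (⟨z.1, hPC z.2⟩ * u0) ?_
    have hc : Commute (⟨z.1, hPC z.2⟩ : C) u0 :=
      Subtype.ext (mem_centralizer_iff.mp u0.2 z.1 z.2)
    have hzo : orderOf (⟨z.1, hPC z.2⟩ : C) = 7 := by
      rw [Subgroup.orderOf_mk, Subgroup.orderOf_coe, hz]
    rw [hc.orderOf_mul_eq_mul_orderOf_of_coprime (by rw [hzo, hu0]; norm_num), hzo, hu0, hC]
  set u : G := u0.1 with hudef
  have hu : orderOf u = 2 := (Subgroup.orderOf_coe u0).trans hu0
  have hu1 : u ≠ 1 := fun h => by rw [h, orderOf_one] at hu; norm_num at hu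
  have huC : u ∈ C := u0.2
  have huniq : ∀ t ∈ C, orderOf t = 2 → t = u := by
    intro t ht hto
    have h1 := IsCyclic.card_orderOf_eq_totient (α := C) (d := 2)
      (by rw [← Nat.card_eq_fintype_card, hC]; norm_num)
    have hle := Finset.card_le_one.mp (by rw [h1]; decide :
      (Finset.univ.filter fun a : C => orderOf a = 2).card ≤ 1)
    have := hle ⟨t, ht⟩
      (Finset.mem_filter.mpr ⟨Finset.mem_univ _, by rw [Subgroup.orderOf_mk, hto]⟩)
      u0 (Finset.mem_filter.mpr ⟨Finset.mem_univ _, hu0⟩)
    exact congrArg Subtype.val this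
  have hord : ∀ g : G, orderOf (g * u * g⁻¹) = 2 := fun g => by
    rw [show g * u * g⁻¹ = MulAut.conj g u by simp [MulAut.conj_apply], MulEquiv.orderOf_eq, hu]
  have hPy : ∀ x : G, x ∈ (P : Subgroup G) → x * u = u * x := fun x hx =>
    mem_centralizer_iff.mp huC x hx
  set K := centralizer ({u} : Set G) with hK
  have hNK : N ≤ K := by
    intro g hg
    rw [hK, mem_centralizer_singleton_iff]
    have hmem : g * u * g⁻¹ ∈ C := by
      rw [hCdef, mem_centralizer_iff]
      intro x hx
      have hx' : g⁻¹ * x * g ∈ (P : Subgroup G) := by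
        have := (mem_normalizer_iff.mp (inv_mem hg) x).mp hx
        rwa [inv_inv] at this
      calc x * (g * u * g⁻¹) = g * (g⁻¹ * x * g * u) * g⁻¹ := by group
        _ = g * (u * (g⁻¹ * x * g)) * g⁻¹ := by rw [hPy _ hx']
        _ = g * u * g⁻¹ * x := by group
    exact mul_inv_eq_iff_eq_mul.mp (huniq _ hmem (hord g))
  have hPK : (P : Subgroup G) ≤ K := le_normalizer.trans hNK
  obtain ⟨k, hk, hk7⟩ := index_normalizer_inf_mod (by norm_num) P K hPK
  rw [inf_eq_left.mpr hNK, hN] at hk
  have h4 : 4 ∣ k * 42 := hk ▸ four_dvd_card_centralizer_involution (by rw [hcard]; norm_num) hu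
  have hidx := K.index_mul_card
  rw [hk, hcard] at hidx
  have hki : k * K.index = 120 := by nlinarith
  have hkm : k ∈ Nat.divisors 120 := Nat.mem_divisors.mpr ⟨⟨_, hki.symm⟩, by norm_num⟩
  have hall : ∀ j ∈ Nat.divisors 120, j % 7 = 1 → 4 ∣ j * 42 → j = 8 ∨ j = 120 := by
    decide +kernel
  rcases hall k hkm hk7 h4 with rfl | rfl
  · -- index 15
    have h15 : K.index = 15 := by omega
    have huK : u ∈ K := by rw [hK, mem_centralizer_singleton_iff]
    have hclass : Nat.card {g : G // IsConj u g} = 15 :=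
      (H25.index_centralizer_eq_card_class u).symm.trans h15
    set T := {g : G // IsConj u g ∧ g ∈ K} with hT
    have ht : Nat.card (MulAction.fixedBy (G ⧸ K) u) = Nat.card T := by
      have h := S1019.result K u huK
      rw [hclass, h15, Nat.mul_comm 15] at h
      exact Nat.eq_of_mul_eq_mul_right (by norm_num) h
    have hf4 := H30.card_fixedBy_involution_mod_four hG K (u := u)
      (by rw [← hu, pow_orderOf_eq_one])
    rw [ht, h15] at hf4
    have hf7 : Nat.card T % 7 = 1 := by
      let _ : MulAction (P : Subgroup G) T :=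
        { smul := fun p x => ⟨(p : G) * x.1 * (p : G)⁻¹, x.2.1.trans (isConj_iff.mpr ⟨_, rfl⟩),
            mul_mem (mul_mem (hPK p.2) x.2.2) (inv_mem (hPK p.2))⟩
          one_smul := fun x => Subtype.ext (show (1 : G) * x.1 * (1 : G)⁻¹ = x.1 by group)
          mul_smul := fun p q x => Subtype.ext (show (p * q : G) * x.1 * (p * q : G)⁻¹ =
            (p : G) * ((q : G) * x.1 * (q : G)⁻¹) * (p : G)⁻¹ by group) }
      have hfix : ∀ x : T, x ∈ MulAction.fixedPoints (P : Subgroup G) T ↔
          x = ⟨u, IsConj.refl u, huK⟩ := by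
        intro x
        constructor
        · intro hx
          obtain ⟨g, hg⟩ := isConj_iff.mp x.2.1
          refine Subtype.ext (huniq x.1 ?_ (hg ▸ hord g))
          rw [hCdef, mem_centralizer_iff]
          intro p hp
          exact mul_inv_eq_iff_eq_mul.mp (congrArg Subtype.val (hx ⟨p, hp⟩))
        · rintro rfl p
          exact Subtype.ext (mul_inv_eq_iff_eq_mul.mpr (hPy p.1 p.2))
      have h1 := P.2.card_modEq_card_fixedPoints T
      have : Unique (MulAction.fixedPoints (P : Subgroup G) T) :=
        { default := ⟨⟨u, IsConj.refl u, huK⟩, (hfix _).mpr rfl⟩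
          uniq := fun x => Subtype.ext ((hfix _).mp x.2) }
      rw [Nat.card_unique (α := MulAction.fixedPoints (P : Subgroup G) T)] at h1
      exact h1
    have hTle : Nat.card T ≤ 15 := hclass ▸ Nat.card_le_card_of_injective
      (fun x : T => (⟨x.1, x.2.1⟩ : {g : G // IsConj u g}))
      (fun x y h => Subtype.ext (congrArg (fun z : {g : G // IsConj u g} => z.1) h))
    have hT15 : Nat.card T = 15 := by omega
    have hall : ∀ g : G, g * u * g⁻¹ ∈ K := by
      have hbij : Function.Bijective (fun x : T => (⟨x.1, x.2.1⟩ : {g : G // IsConj u g})) :=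
        (Function.Injective.bijective_of_nat_card_le
          (fun x y h => Subtype.ext (congrArg (fun z : {g : G // IsConj u g} => z.1) h))
          (by rw [hclass, hT15]))
      intro g
      obtain ⟨x, hx⟩ := hbij.2 ⟨g * u * g⁻¹, isConj_iff.mpr ⟨g, rfl⟩⟩
      have e : x.1 = g * u * g⁻¹ := congrArg (fun y : {g : G // IsConj u g} => y.1) hx
      rw [← e]
      exact x.2.2
    have hmem : u ∈ K.normalCore := hall
    rcases IsSimpleGroup.eq_bot_or_eq_top_of_normal K.normalCore inferInstance with h | h
    · rw [h, Subgroup.mem_bot] at hmem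
      exact hu1 hmem
    · have : K = ⊤ := top_le_iff.mp (h ▸ K.normalCore_le)
      rw [this, index_top] at h15
      omega
  · exact H30.index_centralizer_ne_prime_pow hG Nat.prime_two hu1 0 (by
      show K.index = 2 ^ 0; omega)

end Cfsg.Agent.H28.SmallOrders
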