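import Mathlib.GroupTheory.SpecificGroups.Alternating
import Mathlib.Data.Fintype.Perm

/-!
# The involutions of the alternating group of degree 5
-/

set_option autoImplicit false
set_option synthInstance.maxSize 1024

namespace Cfsg.Agent.H28.SmallOrders

open Finset

theorem altFive_card_involutions :
    (univ.filter fun t : alternatingGroup (Fin 5) => t * t = 1 ∧ t ≠ 1).card = 15 := by
  decide +kernel

theorem altFive_involutions_conj : ∀ s t : alternatingGroup (Fin 5), s * s = 1 → s ≠ 1 →
    t * t = 1 → t ≠ 1 → ∃ g : alternatingGroup (Fin 5), g * s * g⁻¹ = t := by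
  decide +kernel

theorem altFive_commuting : ∀ s : alternatingGroup (Fin 5), s * s = 1 → s ≠ 1 →
    (univ.filter fun t : alternatingGroup (Fin 5) =>
      t * t = 1 ∧ t ≠ 1 ∧ t ≠ s ∧ s * t = t * s).card ≤ 2 := by
  decide +kernel

theorem altFive_no_order_five : ∀ s : alternatingGroup (Fin 5), s * s = 1 → s ≠ 1 →
    (univ.filter fun t : alternatingGroup (Fin 5) =>
      t * t = 1 ∧ t ≠ 1 ∧ t ≠ s ∧ ¬ (s * t) ^ 5 = 1).card ≤ 6 := by
  decide +kernel

end Cfsg.Agent.H28.SmallOrders
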