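import Mathlib.Algebra.Order.BigOperators.Group.List
import Mathlib.Data.Int.DivMod
import Mathlib.Tactic.Linarith
import Mathlib.Tactic.Ring

/-!
# The integer search for order 5040

An item `(d, c)` is the degree of an irreducible character together with its value at an element
of order 7; the search runs over the values `a` at an involution.
-/

set_option autoImplicit false
set_option synthInstance.maxSize 1024

namespace Cfsg.Agent.H28.SmallOrders

/-- The possible items. -/
def items5040 : List (ℕ × ℤ) :=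
  [(48, -1), (20, -1), (6, -1), (8, 1), (15, 1), (36, 1), (40, -2), (12, -2), (5, -2), (9, 2),
   (16, 2), (30, 2)]

/-- The multisets of items of total squared value `r`. -/
def itemConfigs : List (ℕ × ℤ) → ℕ → List (List (ℕ × ℤ))
  | [], r => if r = 0 then [[]] else []
  | p :: cand, r => (List.range (r + 1)).flatMap fun n =>
      if n * p.2.natAbs ^ 2 ≤ r then
        (itemConfigs cand (r - n * p.2.natAbs ^ 2)).map fun l => List.replicate n p ++ l
      else []

/-- The possible values at an involution of a character of degree `d`. -/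
def valueRange (d : ℕ) : List ℤ :=
  ((List.range 25).map fun i : ℕ => (i : ℤ) - 12).filter
    fun a => decide (a.natAbs < d ∧ (4 : ℤ) ∣ (d : ℤ) - a)

theorem mem_valueRange {d : ℕ} {a : ℤ} (h : |a| < (d : ℤ)) (h4 : (4 : ℤ) ∣ (d : ℤ) - a)
    (h12 : a * a ≤ 162) : a ∈ valueRange d := by
  have h1 : -12 ≤ a ∧ a ≤ 12 := ⟨by nlinarith, by nlinarith⟩
  rw [Int.abs_eq_natAbs] at h
  rw [valueRange, List.mem_filter]
  refine ⟨List.mem_map.mpr ⟨(a + 12).toNat, List.mem_range.mpr (by omega), ?_⟩, ?_⟩
  · omega
  · simp only [decide_eq_true_eq]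
    exact ⟨by omega, h4⟩

/-- Run over all values, accumulating `∑ a c`, `1440 ∑ a² c / d` and `∑ a²`. -/
def valueSearch (leaf : ℤ → ℤ → ℤ → Bool) : List (ℕ × ℤ) → ℤ → ℤ → ℤ → Bool
  | [], S, v, q => leaf S v q
  | p :: l, S, v, q => (valueRange p.1).all fun a =>
      decide (162 < q + a * a) ||
        valueSearch leaf l (S + a * p.2) (v + 1440 * p.2 / p.1 * (a * a)) (q + a * a)

theorem valueSearch_sound {α : Type*} (item : α → ℕ × ℤ) (val : α → ℤ)
    (leaf : ℤ → ℤ → ℤ → Bool) :
    ∀ (L : List α) (S v q : ℤ), valueSearch leaf (L.map item) S v q = true →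
      (∀ i ∈ L, val i ∈ valueRange (item i).1) →
      q + (L.map fun i => val i * val i).sum ≤ 162 →
      leaf (S + (L.map fun i => val i * (item i).2).sum)
        (v + (L.map fun i => 1440 * (item i).2 / (item i).1 * (val i * val i)).sum)
        (q + (L.map fun i => val i * val i).sum) = true
  | [], S, v, q, h, _, _ => by simpa [valueSearch] using h
  | i :: L, S, v, q, h, hr, hq => by
    simp only [List.map_cons, List.sum_cons] at hq ⊢
    have hnn : 0 ≤ (L.map fun i => val i * val i).sum := List.sum_nonneg fun x hx => by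
      obtain ⟨j, -, rfl⟩ := List.mem_map.mp hx
      exact mul_self_nonneg _
    rw [List.map_cons, valueSearch, List.all_eq_true] at h
    have h1 := h (val i) (hr i (List.mem_cons_self ..))
    rw [Bool.or_eq_true, decide_eq_true_eq] at h1
    have h2 := valueSearch_sound item val leaf L _ _ _
      (h1.resolve_left (by linarith)) (fun j hj => hr j (List.mem_cons_of_mem _ hj)) (by linarith)
    simpa only [add_assoc] using h2

theorem itemConfigs_complete {α : Type*} (item : α → ℕ × ℤ) :
    ∀ (cand : List (ℕ × ℤ)) (L : List α) (r : ℕ), (∀ p ∈ cand, p.2 ≠ 0) →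
      (∀ i ∈ L, item i ∈ cand) →
      (L.map fun i => (item i).2.natAbs ^ 2).sum = r →
      ∃ L' : List α, L'.Perm L ∧ L'.map item ∈ itemConfigs cand r
  | [], L, r, _, hmem, hr => by
    cases L with
    | nil => exact ⟨[], List.Perm.refl _, by simp at hr; simp [itemConfigs, ← hr]⟩
    | cons i L => exact absurd (hmem i (List.mem_cons_self ..)) List.not_mem_nil
  | p :: cand, L, r, hc, hmem, hr => by
    set A := L.filter fun i => decide (item i = p) with hA
    set B := L.filter fun i => !decide (item i = p) with hB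
    have hperm : (A ++ B).Perm L := List.filter_append_perm _ L
    have hAp : ∀ i ∈ A, item i = p := fun i hi => by simpa using (List.mem_filter.mp hi).2
    have hAmap : A.map item = List.replicate A.length p :=
      List.eq_replicate_iff.mpr ⟨by simp, fun x hx => by
        obtain ⟨i, hi, rfl⟩ := List.mem_map.mp hx
        exact hAp i hi⟩
    have hAw : (A.map fun i => (item i).2.natAbs ^ 2).sum = A.length * p.2.natAbs ^ 2 := by
      rw [List.map_congr_left (fun i hi => by rw [hAp i hi] :
        ∀ i ∈ A, (item i).2.natAbs ^ 2 = p.2.natAbs ^ 2)]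
      simp
    have hw : A.length * p.2.natAbs ^ 2 + (B.map fun i => (item i).2.natAbs ^ 2).sum = r := by
      rw [← hAw, ← hr, ← ((hperm.map fun i => (item i).2.natAbs ^ 2).sum_eq), List.map_append,
        List.sum_append]
    obtain ⟨B', hB', hB'mem⟩ := itemConfigs_complete item cand B
      (r - A.length * p.2.natAbs ^ 2) (fun q hq => hc q (List.mem_cons_of_mem _ hq)) (fun i hi => by
        obtain ⟨hiL, hne⟩ := List.mem_filter.mp hi
        rcases List.mem_cons.mp (hmem i hiL) with h | h
        · simp [h] at hne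
        · exact h) (by omega)
    refine ⟨A ++ B', ((List.Perm.refl A).append hB').trans hperm, ?_⟩
    rw [itemConfigs, List.mem_flatMap]
    have h0 : 0 < p.2.natAbs := Int.natAbs_pos.mpr (hc p (List.mem_cons_self ..))
    refine ⟨A.length, List.mem_range.mpr ?_, ?_⟩
    · have : A.length ≤ A.length * p.2.natAbs ^ 2 := Nat.le_mul_of_pos_right _ (pow_pos h0 2)
      omega
    · rw [if_pos (by omega), List.map_append, hAmap]
      exact List.mem_map.mpr ⟨_, hB'mem, rfl⟩

/-- The admissible numbers of elements centralizing an involution. -/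
def divisors5040 : List ℕ :=
  [1, 2, 3, 4, 5, 6, 7, 8, 9, 10, 12, 14, 15, 16, 18, 20, 21, 24, 28, 30, 35, 36, 40, 42, 45, 48,
   56, 60, 63, 70, 72, 80, 84, 90, 105, 112, 120, 126, 140, 144]

/-- The final test, for squared degree sum `D`. -/
def leaf5040 (D : ℕ) (S v q : ℤ) : Bool :=
  decide (S = -1 → ∀ C ∈ divisors5040, 1 + q ≤ (C : ℤ) → 2 * ((C : ℤ) * C) = v →
    (1 + q = (C : ℤ) ∧ ¬ 16 ∣ 5039 - D))

theorem mem_divisors5040 : ∀ k < 164, k ∣ 5040 → k ∈ divisors5040 := by
  decide +kernel

theorem item_mem_items5040 : ∀ d : ℕ, d < 71 → ∀ c ∈ [(-2 : ℤ), -1, 1, 2], d ∣ 5040 → 2 ≤ d →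
    (7 : ℤ) ∣ (d : ℤ) - c → (d : ℤ) ≠ c → (d, c) ∈ items5040 := by
  decide +kernel

theorem items5040_bound : ∀ p ∈ items5040, 9 * p.2 ≤ 2 * (p.1 : ℤ) ∧ p.2 ≠ 0 ∧
    (p.1 : ℤ) * (1440 * p.2 / p.1) = 1440 * p.2 := by
  decide +kernel

theorem search5040 : ∀ l ∈ itemConfigs items5040 6,
    (l.map fun p => (p.1 : ℤ) * p.2).sum = -1 → (l.map fun p => p.1 * p.1).sum < 5040 →
      valueSearch (leaf5040 (l.map fun p => p.1 * p.1).sum) l 0 1440 0 = true := by
  decide +kernel

end Cfsg.Agent.H28.SmallOrders
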