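import Cfsg.Agent.H28.SmallOrders.RationalColumn
import Cfsg.Agent.H28.SmallOrders.DegreeSearch5040

/-!
# Order 5040: no rational self-centralizing element of order 7
-/

set_option autoImplicit false

namespace Cfsg.Agent.H28.SmallOrders

open Finset

variable {G : Type*} [Group G] [Fintype G] [IsSimpleGroup G]

/-- A simple group of order 5040 has no rational self-centralizing element of order 7. -/
theorem not_rational_seven (hG : ¬ IsMulCommutative G) (hcard : Nat.card G = 5040) {z : G}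
    (hz : orderOf z = 7) (hC : Subgroup.centralizer ({z} : Set G) = Subgroup.zpowers z)
    (he : (H30.conjExps 7 z).card = 6) : False := by
  classical
  have : Fact (Nat.Prime 7) := ⟨by norm_num⟩
  obtain ⟨d, c, hd, hc, hdo, hco, hdf, hcong, hc2, hdc, hd2, hu⟩ :=
    rational_column hG hz hC (by rw [he])
  obtain ⟨u, hu2, hL⟩ := exists_inverting_involution hz hC (by rw [he]) (by norm_num)
  obtain ⟨a, hao, ha4, hac, ha2, hform⟩ := hu u hu2 (by norm_num)
  set o := H26.oneIrr G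
  set R := (univ.erase o).filter fun χ => c χ ≠ 0 with hR
  have hsplit : ∀ {M : Type} [AddCommMonoid M] (f : Cfsg.IrrCharacter G → M),
      (∀ χ, c χ = 0 → f χ = 0) → ∑ χ, f χ = f o + ∑ χ ∈ R, f χ := by
    intro M _ f hf
    rw [← Finset.add_sum_erase _ _ (mem_univ o), hR, Finset.sum_filter_of_ne]
    intro χ _ hne h0
    exact hne (hf χ h0)
  rw [hsplit (fun χ => c χ ^ 2) (fun χ h => by simp [h]), hco] at hc2
  rw [hsplit (fun χ => (d χ : ℤ) * c χ) (fun χ h => by simp [h]), hdo, hco] at hdc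
  rw [hsplit (fun χ => a χ * c χ) (fun χ h => by simp [h]), hao, hco] at hac
  rw [hcard, hL, hsplit (fun χ => (a χ : ℚ) ^ 2 * c χ / d χ) (fun χ h => by simp [h]), hao, hco,
    hdo] at hform
  push_cast at hc2 hdc hform
  have hd2le : ∑ χ ∈ R, d χ * d χ + 1 ≤ 5040 := by
    have h := Finset.sum_le_sum_of_subset (f := fun χ => d χ * d χ)
      (Finset.filter_subset (fun χ => c χ ≠ 0) (univ.erase o))
    rw [← hcard, ← hd2, ← Finset.add_sum_erase _ _ (mem_univ o), hdo, one_pow]
    simp only [sq]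
    linarith [h]
  have hitem : ∀ χ ∈ R, (d χ, c χ) ∈ items5040 := by
    intro χ hχ
    obtain ⟨hχo, hne0⟩ := mem_filter.mp hχ
    obtain ⟨-, hdvd, hlin⟩ := hdf χ
    have hne := ne_of_mem_erase hχo
    have h2 : 2 ≤ d χ := by
      by_contra h
      exact hne (hlin (by have := (hdf χ).1; omega))
    have h71 : d χ < 71 := by
      by_contra h
      have h1 := Finset.single_le_sum (f := fun ψ => d ψ * d ψ) (fun ψ _ => Nat.zero_le _) hχ
      have h3 : 71 * 71 ≤ d χ * d χ := Nat.mul_le_mul (not_lt.mp h) (not_lt.mp h)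
      omega
    have h6 : c χ ^ 2 ≤ 6 := by
      have h1 := Finset.single_le_sum (f := fun ψ => c ψ ^ 2) (fun ψ _ => sq_nonneg _) hχ
      linarith
    have hcmem : c χ ∈ [(-2 : ℤ), -1, 1, 2] := by
      have : -2 ≤ c χ ∧ c χ ≤ 2 := ⟨by nlinarith, by nlinarith⟩
      simp only [List.mem_cons, List.not_mem_nil, or_false]
      omega
    exact item_mem_items5040 _ h71 _ hcmem (hcard ▸ hdvd) h2 (hcong χ).1 ((hcong χ).2 hne)
  -- the configuration
  have hweight : (R.toList.map fun χ => (c χ).natAbs ^ 2).sum = 6 := by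
    rw [Finset.sum_map_toList]
    have : ((∑ χ ∈ R, (c χ).natAbs ^ 2 : ℕ) : ℤ) = 6 := by
      push_cast
      simp only [sq_abs]
      linarith
    exact_mod_cast this
  obtain ⟨L, hL', hconf⟩ := itemConfigs_complete (fun χ => (d χ, c χ)) items5040 R.toList 6
    (fun p hp => (items5040_bound p hp).2.1)
    (fun χ hχ => hitem χ (Finset.mem_toList.mp hχ)) hweight
  have hsumL : ∀ {M : Type} [AddCommMonoid M] (f : Cfsg.IrrCharacter G → M),
      (L.map f).sum = ∑ χ ∈ R, f χ := by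
    intro M _ f
    rw [(hL'.map f).sum_eq, Finset.sum_map_toList]
  set l := L.map fun χ => (d χ, c χ) with hl
  have hD : (l.map fun p => p.1 * p.1).sum = ∑ χ ∈ R, d χ * d χ := by
    rw [hl, List.map_map, ← hsumL]; rfl
  have hsum : (l.map fun p => (p.1 : ℤ) * p.2).sum = -1 := by
    rw [hl, List.map_map]
    refine (hsumL fun χ => (d χ : ℤ) * c χ).trans ?_
    linarith
  have hsearch := search5040 l hconf hsum (by rw [hD]; omega)
  rw [hD] at hsearch
  -- the involution values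
  set Cu := Nat.card (Subgroup.centralizer ({u} : Set G)) with hCu
  set q := ∑ χ ∈ R, a χ * a χ with hq
  have hsplit_sq : ∑ χ, a χ ^ 2 = 1 + q + ∑ χ ∈ (univ.erase o) \ R, a χ * a χ := by
    rw [← Finset.add_sum_erase _ _ (mem_univ o), hao, one_pow,
      ← Finset.sum_sdiff (Finset.filter_subset (fun χ => c χ ≠ 0) (univ.erase o))]
    simp only [hq, hR, sq]
    ring
  have hqC : 1 + q ≤ (Cu : ℤ) := by
    rw [← ha2, hsplit_sq]
    have : 0 ≤ ∑ χ ∈ (univ.erase o) \ R, a χ * a χ := Finset.sum_nonneg fun χ _ => mul_self_nonneg _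
    linarith
  set V := ∑ χ ∈ R, 1440 * c χ / (d χ : ℤ) * (a χ * a χ) with hV
  have hVeq : (2 : ℤ) * (Cu * Cu) = 1440 + V := by
    have h1 : (V : ℚ) = 1440 * ∑ χ ∈ R, (a χ : ℚ) ^ 2 * c χ / d χ := by
      rw [hV, Int.cast_sum, Finset.mul_sum]
      refine Finset.sum_congr rfl fun χ hχ => ?_
      have hk : ((d χ : ℤ) : ℚ) * ((1440 * c χ / (d χ : ℤ) : ℤ) : ℚ) = 1440 * (c χ : ℚ) := by
        exact_mod_cast (items5040_bound _ (hitem χ hχ)).2.2
      have hd0 : (d χ : ℚ) ≠ 0 := Nat.cast_ne_zero.mpr (hdf χ).1.ne'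
      rw [Int.cast_mul, Int.cast_mul]
      push_cast at hk
      field_simp
      linear_combination (a χ : ℚ) ^ 2 * hk
    have : (((2 : ℤ) * (Cu * Cu) : ℤ) : ℚ) = ((1440 + V : ℤ) : ℚ) := by
      push_cast
      rw [h1]
      linear_combination (-2 / 7 : ℚ) * hform
    exact_mod_cast this
  have hCu164 : Cu < 164 := by
    have h1 : 9 * V ≤ 2 * 1440 * q := by
      rw [hV, hq, Finset.mul_sum, Finset.mul_sum]
      refine Finset.sum_le_sum fun χ hχ => ?_
      obtain ⟨hb, -, hk⟩ := items5040_bound _ (hitem χ hχ)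
      have hdpos : (0 : ℤ) < d χ := by exact_mod_cast (hdf χ).1
      have hk' : 9 * (1440 * c χ / (d χ : ℤ)) ≤ 2 * 1440 := by
        have hb' : 9 * c χ ≤ 2 * (d χ : ℤ) := hb
        have hk'' : (d χ : ℤ) * (1440 * c χ / (d χ : ℤ)) = 1440 * c χ := hk
        refine le_of_mul_le_mul_left (a := (d χ : ℤ)) ?_ hdpos
        linarith
      calc 9 * (1440 * c χ / (d χ : ℤ) * (a χ * a χ))
          = 9 * (1440 * c χ / (d χ : ℤ)) * (a χ * a χ) := by ring
        _ ≤ 2 * 1440 * (a χ * a χ) := mul_le_mul_of_nonneg_right hk' (mul_self_nonneg _)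
    by_contra h
    have h164 : (164 : ℤ) ≤ Cu := by exact_mod_cast (not_lt.mp h)
    nlinarith
  have hvals : ∀ χ ∈ L, a χ ∈ valueRange (d χ) := by
    intro χ hχ
    have hχR : χ ∈ R := Finset.mem_toList.mp (hL'.mem_iff.mp hχ)
    refine mem_valueRange ((ha4 χ).2 (ne_of_mem_erase (mem_filter.mp hχR).1)) (ha4 χ).1 ?_
    have h1 := Finset.single_le_sum (f := fun ψ => a ψ * a ψ) (fun ψ _ => mul_self_nonneg _) hχR
    have h2 : (Cu : ℤ) ≤ 163 := by exact_mod_cast (by omega : Cu ≤ 163)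
    linarith
  have hqs : (L.map fun χ => a χ * a χ).sum = q := hsumL _
  have hleaf := valueSearch_sound (fun χ => (d χ, c χ)) a _ L 0 1440 0 hsearch hvals
    (by rw [hqs]; have h2 : (Cu : ℤ) ≤ 163 := by exact_mod_cast (by omega : Cu ≤ 163)
        linarith)
  rw [leaf5040, decide_eq_true_eq, hqs, hsumL, hsumL, zero_add, zero_add] at hleaf
  obtain ⟨heq, h16⟩ := hleaf (by linarith) Cu
    (mem_divisors5040 _ hCu164 (hcard ▸ Subgroup.card_subgroup_dvd_card _)) hqC hVeq
  apply h16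
  have hrest : ∑ χ ∈ (univ.erase o) \ R, d χ * d χ = 5039 - ∑ χ ∈ R, d χ * d χ := by
    have h := hd2
    rw [← Finset.add_sum_erase _ _ (mem_univ o), hdo, one_pow,
      ← Finset.sum_sdiff (Finset.filter_subset (fun χ => c χ ≠ 0) (univ.erase o)), hcard] at h
    simp only [sq] at h
    rw [hR] at *
    omega
  rw [← hrest]
  refine Finset.dvd_sum fun χ hχ => ?_
  have hzero : ∑ ψ ∈ (univ.erase o) \ R, a ψ * a ψ = 0 := by
    rw [← ha2] at heq
    linarith
  have ha0 : a χ = 0 :=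
    mul_self_eq_zero.mp ((Finset.sum_eq_zero_iff_of_nonneg fun ψ _ => mul_self_nonneg _).mp hzero χ hχ)
  have h4 : 4 ∣ d χ := by
    have := (ha4 χ).1
    rw [ha0, sub_zero] at this
    exact_mod_cast this
  exact Nat.mul_dvd_mul h4 h4

end Cfsg.Agent.H28.SmallOrders
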