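import Cfsg.Agent.H30.SylowPrimeCases

/-!
# A rational self-centralising element of prime order

If `z` has prime order `p`, is self-centralising and is conjugate to all its non-trivial powers,
its column in the character table consists of integers of squared length `p`.
-/

set_option autoImplicit false

namespace Cfsg.Agent.H28.SmallOrders

open Finset
open scoped ComplexConjugate

variable {G : Type*} [Group G] [Fintype G] [IsSimpleGroup G]

/-- In a non-abelian simple group a character value at an involution is an integer congruent to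
the degree modulo four. -/
theorem exists_value_involution (hG : ¬ IsMulCommutative G) {u : G} (hu : orderOf u = 2)
    (χ : Cfsg.IrrCharacter G) (d : ℕ) (hd : χ.1 1 = (d : ℂ)) :
    ∃ a : ℤ, χ.1 u = (a : ℂ) ∧ (4 : ℤ) ∣ (d : ℤ) - a ∧ (χ ≠ H26.oneIrr G → |a| < d) := by
  classical
  obtain ⟨a, ha, halt⟩ := H30.exists_int_value_involution hG hu χ d hd
  refine ⟨a, ha, ?_, halt⟩
  obtain ⟨n, ρ, hρ, e⟩ := χ.2
  obtain ⟨b, μ, h1, h2, h3⟩ := H25.exists_eigenbasis ρ u
  have hdn : d = Module.finrank ℂ (Fin n → ℂ) := by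
    have hone : χ.1 1 = (Module.finrank ℂ (Fin n → ℂ) : ℂ) := by rw [← e, ρ.char_one]
    exact_mod_cast hd.symm.trans hone
  have hμ : ∀ i, μ i = 1 ∨ μ i = -1 := fun i => sq_eq_one_iff.mp (hu ▸ h2 i)
  -- the determinant is trivial
  have hdet1 : LinearMap.det (ρ u) = 1 := by
    let f : G →* ℂ := LinearMap.det.comp ρ
    let fu : G →* ℂˣ := f.toHomUnits
    have hk : fu.ker = ⊤ := by
      refine (IsSimpleGroup.eq_bot_or_eq_top_of_normal fu.ker inferInstance).resolve_left fun h => ?_
      exact hG ⟨⟨fun a b => (MonoidHom.ker_eq_bot_iff fu).mp h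
        (by simp only [map_mul, mul_comm])⟩⟩
    have hm : fu u = 1 := MonoidHom.mem_ker.mp (hk ▸ Subgroup.mem_top u)
    exact congrArg Units.val hm
  have hdet : LinearMap.det (ρ u) = ∏ i, μ i := by
    rw [← LinearMap.det_toMatrix b, ← Matrix.det_diagonal]
    congr 1
    ext i j
    rw [LinearMap.toMatrix_apply, h1, map_smul, b.repr_self, Finsupp.smul_apply,
      Finsupp.single_apply, Matrix.diagonal_apply, smul_eq_mul]
    split_ifs <;> simp_all
  set S := univ.filter fun i => μ i = -1 with hS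
  have hprod : ∏ i, μ i = (-1 : ℂ) ^ S.card := by
    rw [← Finset.prod_filter_mul_prod_filter_not univ (fun i => μ i = -1),
      Finset.prod_congr rfl (fun i hi => (mem_filter.1 hi).2), Finset.prod_const,
      Finset.prod_eq_one fun i hi => (hμ i).resolve_right (mem_filter.1 hi).2, mul_one]
  have hev : Even S.card := by
    rw [hdet1] at hdet
    rw [hprod] at hdet
    by_contra ho
    rw [(Nat.not_even_iff_odd.1 ho).neg_one_pow] at hdet
    norm_num at hdet
  have hsum : (a : ℂ) = (d : ℂ) - 2 * (S.card : ℂ) := by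
    rw [← ha, ← e, h3]
    have : ∀ i, μ i = 1 - 2 * (if μ i = -1 then (1 : ℂ) else 0) := fun i => by
      rcases hμ i with h | h <;> rw [h] <;> norm_num
    rw [Finset.sum_congr rfl fun i _ => this i, Finset.sum_sub_distrib, ← Finset.mul_sum,
      Finset.sum_boole, Finset.sum_const, card_univ, Fintype.card_fin, nsmul_one, hdn]
  have hsum' : a = (d : ℤ) - 2 * (S.card : ℤ) := by exact_mod_cast hsum
  obtain ⟨k, hk⟩ := hev
  exact ⟨k, by rw [hsum', hk]; push_cast; ring⟩

variable {p : ℕ} [hp : Fact p.Prime] {z : G}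

/-- The integral column of a rational self-centralising element of order `p`. -/
theorem rational_column (hG : ¬ IsMulCommutative G) (hz : orderOf z = p)
    (hC : Subgroup.centralizer ({z} : Set G) = Subgroup.zpowers z)
    (he : (H30.conjExps p z).card = p - 1) :
    ∃ (d : Cfsg.IrrCharacter G → ℕ) (c : Cfsg.IrrCharacter G → ℤ),
      (∀ χ, χ.1 1 = (d χ : ℂ)) ∧ (∀ χ, χ.1 z = (c χ : ℂ)) ∧
      d (H26.oneIrr G) = 1 ∧ c (H26.oneIrr G) = 1 ∧
      (∀ χ, 0 < d χ ∧ d χ ∣ Nat.card G ∧ (d χ = 1 → χ = H26.oneIrr G)) ∧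
      (∀ χ, (p : ℤ) ∣ (d χ : ℤ) - c χ ∧ (χ ≠ H26.oneIrr G → (d χ : ℤ) ≠ c χ)) ∧
      ∑ χ, c χ ^ 2 = p ∧ ∑ χ, (d χ : ℤ) * c χ = 0 ∧ ∑ χ, d χ ^ 2 = Nat.card G ∧
      ∀ u : G, orderOf u = 2 → p ≠ 2 → ∃ a : Cfsg.IrrCharacter G → ℤ,
        a (H26.oneIrr G) = 1 ∧
        (∀ χ, (4 : ℤ) ∣ (d χ : ℤ) - a χ ∧ (χ ≠ H26.oneIrr G → |a χ| < d χ)) ∧
        ∑ χ, a χ * c χ = 0 ∧ ∑ χ, a χ ^ 2 = Nat.card (Subgroup.centralizer ({u} : Set G)) ∧
        (Nat.card G : ℚ) * ∑ χ, (a χ : ℚ) ^ 2 * c χ / d χ =
          (Nat.card {q : G × G // IsConj u q.1 ∧ IsConj u q.2 ∧ q.1 * q.2 = z} : ℚ) *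
            (Nat.card (Subgroup.centralizer ({u} : Set G)) : ℚ) ^ 2 := by
  classical
  obtain ⟨m, hm1, hmd, hmm, hmv, -⟩ := H30.exists_multiplicities hz hC
  choose d hd hdpos hddvd hdone using H30.irr_degree_facts hG
  set E := H30.conjExps p z with hE
  have hp1 := hp.out.one_lt
  -- every non-zero exponent gives a conjugate
  have hEall : ∀ a : ZMod p, a ≠ 0 → a ∈ E := by
    have hne0 : E ⊆ univ.erase 0 := by
      intro a ha
      refine mem_erase.2 ⟨fun h0 => ?_, mem_univ a⟩
      rw [hE, H30.conjExps, mem_filter, h0, ZMod.val_zero, pow_zero, isConj_one_left] at ha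
      rw [ha.2, orderOf_one] at hz
      omega
    have := Finset.eq_of_subset_of_card_le hne0 (by simp [he, ZMod.card])
    intro a ha
    rw [this]
    exact mem_erase.2 ⟨ha, mem_univ a⟩
  have hEne : (0 : ZMod p) ∉ E := by
    intro h0
    rw [hE, H30.conjExps, mem_filter, ZMod.val_zero, pow_zero, isConj_one_left] at h0
    rw [h0.2, orderOf_one] at hz
    omega
  have hp2 : (p : ℤ) ^ 2 ≠ 0 := pow_ne_zero 2 (Int.natCast_ne_zero.mpr hp.out.ne_zero)
  have hF : ∀ k l : ZMod p, k ≠ 0 → l ≠ 0 → (E.filter fun a => k = a * l).card = 1 := by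
    intro k l hk hl
    rw [Finset.card_eq_one]
    refine ⟨k * l⁻¹, ?_⟩
    ext a
    simp only [mem_filter, mem_singleton]
    constructor
    · rintro ⟨-, rfl⟩; rw [mul_assoc, mul_inv_cancel₀ hl, mul_one]
    · rintro rfl
      exact ⟨hEall _ (mul_ne_zero hk (inv_ne_zero hl)),
        by rw [mul_assoc, inv_mul_cancel₀ hl, mul_one]⟩
  have hconst : ∀ k : ZMod p, k ≠ 0 → m k = m 1 := by
    intro k hk
    funext χ
    have h11 := hmm 1 1
    have hkk := hmm k k
    have hk1 := hmm k 1
    rw [hF 1 1 one_ne_zero one_ne_zero] at h11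
    rw [hF k k hk hk] at hkk
    rw [hF k 1 hk one_ne_zero] at hk1
    have h0 : (p : ℤ) ^ 2 * ∑ χ, (m k χ - m 1 χ) ^ 2 = 0 := by
      have e : ∑ χ, (m k χ - m 1 χ) ^ 2
          = ∑ χ, m k χ * m k χ + ∑ χ, m 1 χ * m 1 χ - 2 * ∑ χ, m k χ * m 1 χ := by
        rw [Finset.mul_sum, ← Finset.sum_add_distrib, ← Finset.sum_sub_distrib]
        exact Finset.sum_congr rfl fun χ _ => by ring
      rw [e, mul_sub, mul_add, h11, hkk, mul_left_comm, hk1]
      ring
    have h1 := (mul_eq_zero.mp h0).resolve_left hp2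
    have h2 := (Finset.sum_eq_zero_iff_of_nonneg fun χ _ => sq_nonneg _).mp h1 χ (mem_univ χ)
    exact sub_eq_zero.mp (pow_eq_zero_iff two_ne_zero |>.mp h2)
  let c : Cfsg.IrrCharacter G → ℤ := fun χ => m 0 χ - m 1 χ
  have hcv : ∀ χ, χ.1 z = (c χ : ℂ) := by
    intro χ
    have hz0 : ∑ k ∈ univ.erase (0 : ZMod p), ZMod.stdAddChar k = (-1 : ℂ) := by
      have := AddChar.sum_eq_zero_of_ne_one (ψ := (ZMod.stdAddChar : AddChar (ZMod p) ℂ))
        (by
          have := ZMod.isPrimitive_stdAddChar p (one_ne_zero (α := ZMod p))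
          rwa [AddChar.mulShift_one] at this)
      rw [← Finset.add_sum_erase _ _ (mem_univ (0 : ZMod p)), AddChar.map_zero_eq_one] at this
      linear_combination this
    rw [hmv, ← Finset.add_sum_erase _ _ (mem_univ (0 : ZMod p)),
      Finset.sum_congr rfl (fun k hk => by rw [hconst k (ne_of_mem_erase hk)] :
        ∀ k ∈ univ.erase (0 : ZMod p), (m k χ : ℂ) * ZMod.stdAddChar k =
          (m 1 χ : ℂ) * ZMod.stdAddChar k),
      ← Finset.mul_sum, hz0, AddChar.map_zero_eq_one]
    push_cast [c]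
    ring
  have hdm : ∀ χ, (d χ : ℤ) = m 0 χ + (p - 1 : ℕ) * m 1 χ := by
    intro χ
    have h : (d χ : ℤ) = ∑ k, m k χ := by exact_mod_cast (hd χ).symm.trans (hmd χ)
    rw [h, ← Finset.add_sum_erase _ _ (mem_univ (0 : ZMod p)),
      Finset.sum_congr rfl (fun k hk => by rw [hconst k (ne_of_mem_erase hk)] :
        ∀ k ∈ univ.erase (0 : ZMod p), m k χ = m 1 χ),
      Finset.sum_const, card_erase_of_mem (mem_univ _), card_univ, ZMod.card, nsmul_eq_mul]
  have hCz : Nat.card (Subgroup.centralizer ({z} : Set G)) = p := by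
    rw [hC, Nat.card_zpowers, hz]
  have hz1 : z ≠ 1 := fun h => by rw [h, orderOf_one] at hz; omega
  have hone : c (H26.oneIrr G) = 1 := by simp [c, hm1]
  have hdone' : d (H26.oneIrr G) = 1 := by
    have := hd (H26.oneIrr G)
    rw [H26.oneIrr_val] at this
    exact_mod_cast this.symm
  refine ⟨d, c, hd, hcv, hdone', hone, fun χ => ⟨hdpos χ, hddvd χ, hdone χ⟩,
    fun χ => ⟨⟨m 1 χ, ?_⟩, fun hne heq => ?_⟩, ?_, ?_, ?_, ?_⟩
  · rw [hdm, Nat.cast_sub hp1.le]
    push_cast [c]
    ring
  · -- `z` would act trivially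
    obtain ⟨n, ρ, hρ, e⟩ := χ.2
    have hm10 : m 1 χ = 0 := by
      have h := hdm χ
      rw [heq, Nat.cast_sub hp1.le] at h
      simp only [c] at h
      push_cast at h
      have : (p : ℤ) * m 1 χ = 0 := by linear_combination -h
      exact (mul_eq_zero.mp this).resolve_left (Int.natCast_ne_zero.mpr hp.out.ne_zero)
    have hval : ρ.character z = (Module.finrank ℂ (Fin n → ℂ) : ℂ) := by
      rw [congrFun e z, hcv χ, ← heq, Int.cast_natCast, ← hd χ, ← congrFun e 1, ρ.char_one]
    have hρz : ρ z = 1 := (H25.char_eq_degree_iff ρ z).mp hval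
    let fu : G →* (Module.End ℂ (Fin n → ℂ))ˣ := (ρ : G →* Module.End ℂ (Fin n → ℂ)).toHomUnits
    have hzk : z ∈ fu.ker := MonoidHom.mem_ker.mpr (Units.ext hρz)
    rcases IsSimpleGroup.eq_bot_or_eq_top_of_normal fu.ker inferInstance with h | h
    · rw [h, Subgroup.mem_bot] at hzk
      exact hz1 hzk
    · have hconst' : ∀ g, χ.1 g = (d χ : ℂ) := by
        intro g
        have hg : ρ g = 1 := congrArg Units.val (MonoidHom.mem_ker.mp (h ▸ Subgroup.mem_top g))
        rw [← congrFun e g, (H25.char_eq_degree_iff ρ g).mpr hg, ← hd χ, ← congrFun e 1, ρ.char_one]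
      have h1 := H26.classInner_irr χ χ
      rw [if_pos rfl, Cfsg.classInner] at h1
      simp only [hconst', map_natCast, Finset.sum_const, Finset.card_univ, nsmul_eq_mul,
        ← Nat.card_eq_fintype_card] at h1
      rw [← mul_assoc, inv_mul_cancel₀ (Nat.cast_ne_zero.mpr Nat.card_pos.ne'), one_mul] at h1
      have hd1 : d χ = 1 := by
        have : d χ * d χ = 1 := by exact_mod_cast h1
        exact Nat.eq_one_of_mul_eq_one_left this
      exact hne (hdone χ hd1)
  · have h := H26.column_orthogonality z z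
    rw [hCz, H26.classIndicator, if_pos (IsConj.refl z), mul_one] at h
    simp only [hcv, map_intCast] at h
    exact_mod_cast (by simpa [sq] using h : ∑ χ, (c χ : ℂ) ^ 2 = (p : ℂ))
  · have h := H26.column_orthogonality (1 : G) z
    rw [H26.classIndicator, if_neg (fun h => hz1 (isConj_one_right.mp h)), mul_zero] at h
    simp only [hcv, hd, map_intCast] at h
    exact_mod_cast h
  · have h := H26.column_orthogonality (1 : G) 1
    rw [H26.classIndicator, if_pos (IsConj.refl 1), mul_one] at h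
    have htop : Subgroup.centralizer ({(1 : G)} : Set G) = ⊤ := by
      ext x; simp [Subgroup.mem_centralizer_singleton_iff]
    rw [htop, Subgroup.card_top] at h
    simp only [hd, map_natCast, ← sq] at h
    exact_mod_cast h
  intro u hu hp'
  choose a ha ha4 halt using fun χ => exists_value_involution hG hu χ (d χ) (hd χ)
  have hnc : ¬ IsConj u z := by
    intro h
    obtain ⟨g, hg⟩ := isConj_iff.mp h
    have h1 : orderOf z = 2 := by
      rw [← hg, ← hu]
      exact orderOf_injective (MulAut.conj g).toMonoidHom (MulAut.conj g).injective u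
    exact hp' (hz.symm.trans h1)
  have ha1 : a (H26.oneIrr G) = 1 := by
    have := ha (H26.oneIrr G)
    rw [H26.oneIrr_val] at this
    exact_mod_cast this.symm
  refine ⟨a, ha1, fun χ => ⟨ha4 χ, halt χ⟩, ?_, ?_, ?_⟩
  · have h := H26.column_orthogonality u z
    rw [H26.classIndicator, if_neg hnc, mul_zero] at h
    simp only [hcv, ha, map_intCast] at h
    exact_mod_cast h
  · have h := H26.column_orthogonality u u
    rw [H26.classIndicator, if_pos (IsConj.refl u), mul_one] at h
    simp only [ha, map_intCast, ← sq] at h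
    exact_mod_cast h
  · set P := {q : G × G // IsConj u q.1 ∧ IsConj u q.2 ∧ q.1 * q.2 = z}
    have hform := H38.class_coeff u u z
    set Cu := Nat.card (Subgroup.centralizer ({u} : Set G)) with hCu
    have hclass : (Nat.card {y : G // IsConj u y} : ℂ) * (Cu : ℂ) = (Nat.card G : ℂ) := by
      have := (Subgroup.centralizer ({u} : Set G)).index_mul_card
      rw [H25.index_centralizer_eq_card_class] at this
      exact_mod_cast this
    have hCu0 : (Cu : ℂ) ≠ 0 := Nat.cast_ne_zero.mpr Nat.card_pos.ne'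
    have hG0 : (Nat.card G : ℂ) ≠ 0 := Nat.cast_ne_zero.mpr Nat.card_pos.ne'
    have hcl : (Nat.card {y : G // IsConj u y} : ℂ) = (Nat.card G : ℂ) / (Cu : ℂ) := by
      rw [eq_div_iff hCu0, hclass]
    rw [hcl] at hform
    simp only [ha, hcv, hd, map_intCast] at hform
    have goal' : (Nat.card G : ℂ) * ∑ χ, (a χ : ℂ) ^ 2 * c χ / d χ =
        (Nat.card P : ℂ) * (Cu : ℂ) ^ 2 := by
      rw [hform]
      simp only [sq]
      field_simp
    exact_mod_cast goal'

/-- A rational self-centralising element of odd prime order is inverted by an involution, and is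
in exactly `p` ways a product of two conjugates of that involution. -/
theorem exists_inverting_involution (hz : orderOf z = p)
    (hC : Subgroup.centralizer ({z} : Set G) = Subgroup.zpowers z)
    (he : (H30.conjExps p z).card = p - 1) (hp2 : p ≠ 2) :
    ∃ u : G, orderOf u = 2 ∧
      Nat.card {q : G × G // IsConj u q.1 ∧ IsConj u q.2 ∧ q.1 * q.2 = z} = p := by
  classical
  have hz1 : z ≠ 1 := fun h => by rw [h, orderOf_one] at hz; exact hp.out.one_lt.ne hz
  have hodd : Odd p := hp.out.odd_of_ne_two hp2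
  have hroot : ∀ w ∈ Subgroup.zpowers z, ∃ s ∈ Subgroup.zpowers z, s * s = w := by
    intro w hw
    refine ⟨w ^ ((p + 1) / 2), pow_mem hw _, ?_⟩
    have hwp : w ^ p = 1 := by
      obtain ⟨i, rfl⟩ := Subgroup.mem_zpowers_iff.mp hw
      rw [← zpow_natCast, ← zpow_mul, mul_comm, zpow_mul, zpow_natCast, ← hz, pow_orderOf_eq_one,
        one_zpow]
    rw [← pow_add, show (p + 1) / 2 + (p + 1) / 2 = p + 1 by
      obtain ⟨k, rfl⟩ := hodd; omega, pow_succ, hwp, one_mul]
  have hneg : IsConj z z⁻¹ := by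
    have hE : (-1 : ZMod p) ∈ H30.conjExps p z := by
      have hne0 : H30.conjExps p z ⊆ univ.erase 0 := by
        intro a ha
        refine mem_erase.2 ⟨fun h0 => ?_, mem_univ a⟩
        rw [H30.conjExps, mem_filter, h0, ZMod.val_zero, pow_zero, isConj_one_left] at ha
        exact hz1 ha.2
      rw [Finset.eq_of_subset_of_card_le hne0 (by simp [he, ZMod.card])]
      exact mem_erase.2 ⟨neg_ne_zero.mpr one_ne_zero, mem_univ _⟩
    rw [H30.conjExps, mem_filter] at hE
    have hval : z ^ (-1 : ZMod p).val = z⁻¹ := by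
      refine eq_inv_of_mul_eq_one_left ?_
      rw [← pow_succ, show (-1 : ZMod p).val + 1 = p by
        obtain ⟨n, rfl⟩ : ∃ n, p = n + 1 := ⟨p - 1, (Nat.succ_pred_eq_of_pos hp.out.pos).symm⟩
        rw [ZMod.val_neg_one], ← hz, pow_orderOf_eq_one]
    rw [hval] at hE
    exact hE.2
  obtain ⟨u, huz⟩ := isConj_iff.mp hneg
  have hinv : ∀ w ∈ Subgroup.zpowers z, u * w * u⁻¹ = w⁻¹ := by
    intro w hw
    obtain ⟨i, rfl⟩ := Subgroup.mem_zpowers_iff.mp hw
    rw [← conj_zpow, huz, inv_zpow]
  have hmem : ∀ g : G, g * z = z * g → g ∈ Subgroup.zpowers z := fun g hg => by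
    rw [← hC, Subgroup.mem_centralizer_singleton_iff]; exact hg
  have husq : u * u = 1 := by
    have h2 : u * u * z * (u * u)⁻¹ = z := by
      have e : u * u * z * (u * u)⁻¹ = u * (u * z * u⁻¹) * u⁻¹ := by group
      rw [e, huz, ← conj_inv, huz, inv_inv]
    have hu2 := hmem _ (mul_inv_eq_iff_eq_mul.mp h2)
    have h3 := hinv _ hu2
    have e : u * (u * u) * u⁻¹ = u * u := by group
    rw [e] at h3
    obtain ⟨s, hs, hss⟩ := hroot _ hu2
    -- an element of odd order equal to its inverse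
    have hp' : (u * u) ^ p = 1 := by
      obtain ⟨i, hi⟩ := Subgroup.mem_zpowers_iff.mp hu2
      rw [← hi, ← zpow_natCast, ← zpow_mul, mul_comm, zpow_mul, zpow_natCast, ← hz,
        pow_orderOf_eq_one, one_zpow]
    have h4 : (u * u) ^ 2 = 1 := by
      rw [sq]
      nth_rewrite 2 [h3]
      exact mul_inv_cancel _
    have h5 : orderOf (u * u) ∣ Nat.gcd 2 p :=
      Nat.dvd_gcd (orderOf_dvd_of_pow_eq_one h4) (orderOf_dvd_of_pow_eq_one hp')
    rw [(Nat.coprime_primes Nat.prime_two hp.out).mpr hp2.symm, Nat.dvd_one,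
      orderOf_eq_one_iff] at h5
    exact h5
  have hu1 : u ≠ 1 := by
    rintro rfl
    rw [one_mul, inv_one, mul_one] at huz
    have h2 : z ^ 2 = 1 := by rw [sq]; nth_rewrite 2 [huz]; exact mul_inv_cancel z
    have := (Nat.prime_dvd_prime_iff_eq hp.out Nat.prime_two).mp (hz ▸ orderOf_dvd_of_pow_eq_one h2)
    exact hp2 this
  have hu : orderOf u = 2 := orderOf_eq_prime (by rw [sq]; exact husq) hu1
  have huinv : u⁻¹ = u := inv_eq_of_mul_eq_one_left husq
  have hconj : ∀ w ∈ Subgroup.zpowers z, IsConj u (u * w) := by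
    intro w hw
    obtain ⟨s, hs, hss⟩ := hroot w hw
    refine isConj_iff.mpr ⟨s⁻¹, ?_⟩
    have h := hinv s⁻¹ (inv_mem hs)
    rw [inv_inv, huinv] at h
    rw [inv_inv, ← hss]
    have h' : s⁻¹ * u = u * s := by
      calc s⁻¹ * u = u * (u * s⁻¹ * u) := by rw [← mul_assoc, ← mul_assoc, husq, one_mul]
        _ = u * s := by rw [h]
    rw [h', mul_assoc]
  refine ⟨u, hu, ?_⟩
  have key : ∀ w ∈ Subgroup.zpowers z, u * w * (u * (w * z)) = z := by
    intro w hw
    have h := hinv w hw
    rw [huinv] at h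
    rw [show u * w * (u * (w * z)) = (u * w * u) * (w * z) by group, h]
    group
  let f : Subgroup.zpowers z → {q : G × G // IsConj u q.1 ∧ IsConj u q.2 ∧ q.1 * q.2 = z} :=
    fun w => ⟨(u * w.1, u * (w.1 * z)), hconj _ w.2,
      hconj _ (mul_mem w.2 (Subgroup.mem_zpowers z)), key _ w.2⟩
  have hf : Function.Bijective f := by
    constructor
    · intro v w h
      exact Subtype.ext (mul_left_cancel (congrArg (fun q => q.1.1) h))
    · rintro ⟨⟨a, b⟩, ha, hb, hab⟩
      have sq1 : ∀ t : G, IsConj u t → t * t = 1 := by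
        intro t ht
        obtain ⟨g, rfl⟩ := isConj_iff.mp ht
        rw [conj_mul, husq, mul_one, mul_inv_cancel]
      have haa := sq1 a ha
      have hbb := sq1 b hb
      have hbeq : b = a * z := by rw [← hab, ← mul_assoc, haa, one_mul]
      have haz : a * z * a⁻¹ = z⁻¹ := by
        rw [inv_eq_of_mul_eq_one_left haa]
        apply eq_inv_of_mul_eq_one_left
        calc a * z * a * z = a * z * (a * z) := by group
          _ = 1 := by rw [← hbeq, hbb]
      have hw : u * a ∈ Subgroup.zpowers z := by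
        apply hmem
        apply mul_inv_eq_iff_eq_mul.mp
        rw [show u * a * z * (u * a)⁻¹ = u * (a * z * a⁻¹) * u⁻¹ by group, haz, ← conj_inv, huz,
          inv_inv]
      refine ⟨⟨u * a, hw⟩, Subtype.ext (Prod.ext ?_ ?_)⟩
      · show u * (u * a) = a
        rw [← mul_assoc, husq, one_mul]
      · show u * (u * a * z) = b
        rw [hbeq, ← mul_assoc, ← mul_assoc, husq, one_mul]
  rw [← Nat.card_congr (Equiv.ofBijective f hf), Nat.card_zpowers, hz]

end Cfsg.Agent.H28.SmallOrders
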